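import Groth.Agent.L26.KL.Basic
import Groth.Agent.L26.Pic0.AmpleFibre
import Groth.Agent.L08.Cube.Invariant

/-!
# `K(L)` of a relatively ample module is finite
-/

set_option autoImplicit false
set_option linter.style.haveILetI false
set_option linter.unusedSectionVars false
set_option backward.isDefEq.respectTransparency false

universe u

open CategoryTheory CategoryTheory.Limits MonoidalCategory CartesianMonoidalCategory AlgebraicGeometry TopologicalSpace
open scoped MonObj

noncomputable section

namespace Groth.Agent.KLFinite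

open Groth.L08.Cube (trK pc kpt kpt_injective exists_kpt)

attribute [local instance] Groth.L08.Cube.clMonoid

variable {S : Scheme.{u}} {A : Over S}

/-- The adjoint of a map into a base change. -/
def down {R : Scheme.{u}} (q : R ⟶ S) {U : Over R} (f : U ⟶ (Over.pullback q).obj A) : Over.mk (U.hom ≫ q) ⟶ A :=
  Over.homMk (f.left ≫ pullback.fst A.hom q) (by
    show (f.left ≫ pullback.fst A.hom q) ≫ A.hom = U.hom ≫ _
    rw [Category.assoc, pullback.condition, ← Category.assoc]
    exact congrArg (· ≫ _) (Over.w f))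

theorem down_mul [GrpObj A] {R : Scheme.{u}} (q : R ⟶ S) {U : Over R} (f g : U ⟶ Red.bc q A) :
    down q (f * g) = down q f * down q g := by
  let P := Over.pullback q
  let W := Over.mk (U.hom ≫ q)
  let unit : U ⟶ P.obj W :=
    Over.homMk (pullback.lift (𝟙 _) U.hom (by rw [Category.id_comp]; rfl)) (pullback.lift_snd _ _ _)
  have h1 : ∀ (φ : W ⟶ A) (h : U ⟶ Red.bc q A), h = unit ≫ P.map φ → down q h = φ := fun φ h e => by
    subst e
    refine Over.OverMorphism.ext ?_
    show (pullback.lift (𝟙 _) U.hom _ ≫ _) ≫ _ = _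
    rw [Category.assoc]
    erw [pullback.lift_fst]
    rw [pullback.lift_fst_assoc, Category.id_comp]
  have h2 : ∀ h : U ⟶ Red.bc q A, h = unit ≫ P.map (down q h) := fun h => by
    refine Over.OverMorphism.ext (pullback.hom_ext ?_ ((Over.w h).trans (Over.w (unit ≫ P.map (down q h))).symm))
    show _ = (pullback.lift (𝟙 _) U.hom _ ≫ _) ≫ _
    rw [Category.assoc]
    erw [pullback.lift_fst]
    rw [pullback.lift_fst_assoc, Category.id_comp]
    rfl
  refine h1 _ _ ?_
  show f * g = unit ≫ P.homMonoidHom (down q f * down q g)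
  rw [map_mul, MonObj.comp_mul]
  exact congrArg₂ (· * ·) (h2 f) (h2 g)

/-- A relatively ample module is ample on every geometric fibre. -/
theorem isAmple_bc (L : A.left.Modules) (hL : RelAmple.IsRelAmple A.hom L) {Ω : Type u} [Field Ω]
    (q : Spec (CommRingCat.of Ω) ⟶ S) :
    CohB1.IsAmple ((Scheme.Modules.pullback (pullback.fst A.hom q)).obj L) := by
  let X := Red.bc q A
  let pr : X.left ⟶ A.left := pullback.fst A.hom q
  let s := q (IsLocalRing.closedPoint Ω)
  haveI : Subsingleton ↥(Spec (CommRingCat.of Ω)) := inferInstanceAs (Subsingleton (PrimeSpectrum Ω))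
  obtain ⟨V, hV, hsV, -⟩ := exists_isAffineOpen_mem_and_subset (x := s) (U := (⊤ : S.Opens)) trivial
  haveI : IsAffine V.toScheme := hV
  have hqV : Set.range q ⊆ Set.range V.ι := by
    rintro _ ⟨z, rfl⟩
    rw [Scheme.Opens.range_ι, Subsingleton.elim z (IsLocalRing.closedPoint Ω)]
    exact hsV
  let q' := IsOpenImmersion.lift V.ι q hqV
  have hq' : q' ≫ V.ι = q := IsOpenImmersion.lift_fac _ _ _
  have hprV : Set.range pr ⊆ Set.range (A.hom ⁻¹ᵁ V).ι := by
    rintro _ ⟨z, rfl⟩
    rw [Scheme.Opens.range_ι]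
    show A.hom (pr z) ∈ V
    rw [← Scheme.Hom.comp_apply, show pr ≫ A.hom = X.hom ≫ q from pullback.condition, Scheme.Hom.comp_apply]
    exact (Scheme.Opens.range_ι V).le (hqV ⟨_, rfl⟩)
  let g := IsOpenImmersion.lift (A.hom ⁻¹ᵁ V).ι pr hprV
  have hg : g ≫ (A.hom ⁻¹ᵁ V).ι = pr := IsOpenImmersion.lift_fac _ _ _
  haveI : IsAffineHom g := by
    have big : IsPullback (g ≫ (A.hom ⁻¹ᵁ V).ι) X.hom A.hom (q' ≫ V.ι) := by
      rw [hg, hq']
      exact IsPullback.of_hasPullback A.hom q
    have w : g ≫ (A.hom ∣_ V) = X.hom ≫ q' := by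
      rw [← cancel_mono V.ι, Category.assoc, morphismRestrict_ι, Category.assoc, hq', ← Category.assoc, hg]
      exact pullback.condition
    exact MorphismProperty.of_isPullback (IsPullback.of_right big w (isPullback_morphismRestrict A.hom V).flip).flip
      inferInstance
  exact Groth.L18.Ample.isAmple_of_iso
    ((Scheme.Modules.pullback g).mapIso ((Scheme.Modules.restrictFunctorIsoPullback _).app L) ≪≫
      (Scheme.Modules.pullbackComp g (A.hom ⁻¹ᵁ V).ι).app L ≪≫ (Scheme.Modules.pullbackCongr hg).app L)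
    (Groth.L18.Ample.isAmple_pullback_of_isAffineHom g (hL.2 ⟨V, hV⟩))

variable [GrpObj A] [IsProper A.hom] [Smooth A.hom] [GeometricallyConnected A.hom]

/-- Finitely many geometric points of a fibre satisfy the defining condition of `K(L)`. -/
theorem finite_mumfordTriv (L : A.left.Modules) (hL : RelAmple.IsRelAmple A.hom L) (hL' : PicF.IsInvertible L)
    {Ω : Type u} [Field Ω] [IsAlgClosed Ω] (q : Spec (CommRingCat.of Ω) ⟶ S) :
    Set.Finite {z : Over.mk q ⟶ A | ThetaGrp.IsMumfordTriv A L z} := by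
  let X := Red.bc q A
  haveI : IsProper X.hom := inferInstanceAs (IsProper (pullback.snd A.hom q))
  haveI : Smooth X.hom := inferInstanceAs (Smooth (pullback.snd A.hom q))
  haveI : GeometricallyConnected X.hom := inferInstanceAs (GeometricallyConnected (pullback.snd A.hom q))
  haveI : GeometricallyReduced X.hom := Groth.Agent.AV.geometricallyReduced_of_smooth X.hom
  haveI : GeometricallyIntegral X.hom := Groth.L08.Cube.geometricallyIntegral_of_group X
  haveI : Subsingleton ↥(Over.mk q).left := inferInstanceAs (Subsingleton (PrimeSpectrum Ω))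
  let L' := (Scheme.Modules.pullback (pullback.fst A.hom q)).obj L
  let pt : (Over.mk q ⟶ A) → (𝟙_ (Over (Spec (CommRingCat.of Ω))) ⟶ X) := fun z =>
    Over.homMk (pullback.lift z.left (𝟙 _) ((Over.w z).trans (Category.id_comp _).symm)) (pullback.lift_snd _ _ _)
  have hpt : ∀ z, (pt z).left ≫ pullback.fst A.hom q = z.left := fun z => pullback.lift_fst _ _ _
  refine ((Groth.L08.Cube.finite_fixed_of_isAmple L' (isAmple_bc L hL q)).preimage (f := pt) ?_).subset
    (fun z hz => ?_)
  · exact fun z _ z' _ h => Over.OverMorphism.ext ((hpt z).symm.trans ((congrArg (fun a => a.left ≫ _) h).trans (hpt z')))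
  · obtain ⟨M, hM, ⟨ψ⟩⟩ := hz
    have h : (PicF.pullCl (snd A (Over.mk q)).left (PicF.cl M) * PicF.pullCl (fst A (Over.mk q)).left (PicF.cl L)) *
        PicF.pullCl (snd A (Over.mk q) ≫ z).left (PicF.cl L) =
        PicF.pullCl ((A ◁ z) ≫ μ[A]).left (PicF.cl L) := (PicGrp.cl_eq_cl_iff _ _).2 ⟨ψ⟩
    have hM1 : PicF.cl M = 1 := Groth.Agent.AbDualLib.eq_oneCl_of_subsingleton ⟨M, rfl, hM⟩
    have hz1 : PicF.pullCl z.left (PicF.cl L) = 1 :=
      Groth.Agent.AbDualLib.eq_oneCl_of_subsingleton (PicLoc.isInvertibleCl_pullCl _ ⟨L, rfl, hL'⟩)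
    have hz2 : PicF.pullCl (snd A (Over.mk q) ≫ z).left (PicF.cl L) = 1 :=
      (PicLoc.pullCl_comp (snd A (Over.mk q)).left z.left _).trans
        ((congrArg (PicF.pullCl _) hz1).trans (Groth.L08.Cube.pullCl_one _))
    rw [hM1, hz2, Groth.L08.Cube.pullCl_one, one_mul, _root_.mul_one, Groth.Agent.KLLib.whiskerLeft_comp_mul] at h
    let j : Over.mk (X.hom ≫ q) ⟶ A ⊗ Over.mk q := lift (down q (𝟙 X)) (Over.homMk X.hom rfl)
    have h' := congrArg (PicF.pullCl j.left) h
    rw [← PicLoc.pullCl_comp, ← PicLoc.pullCl_comp, ← Over.comp_left, ← Over.comp_left, MonObj.comp_mul, lift_fst,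
      lift_snd_assoc] at h'
    have e : Over.homMk X.hom rfl ≫ z = down q (toUnit X ≫ pt z) :=
      Over.OverMorphism.ext ((congrArg (X.hom ≫ ·) (hpt z)).symm.trans (Category.assoc _ _ _).symm)
    rw [e, ← down_mul] at h'
    have hd : ∀ φ : X ⟶ X, PicF.pullCl (down q φ).left (PicF.cl L) = pc L' φ := fun φ =>
      PicLoc.pullCl_comp φ.left _ _
    show pc L' (trK (pt z)) = PicF.cl L'
    have h2 := (hd (trK (pt z))).symm.trans (h'.symm.trans (hd (𝟙 X)))
    rw [h2, Groth.Agent.Pic0.pc_id]

/-- `K(L)` is finite over the base. -/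
theorem isFinite (L : A.left.Modules) (hL : RelAmple.IsRelAmple A.hom L) (hL' : PicF.IsInvertible L)
    (K : Over S) (i : K ⟶ A) (hK : ThetaGrp.IsKL A L i) : IsFinite K.hom := by
  haveI := hK.closed
  haveI : IsProper K.hom := by rw [← Over.w i]; infer_instance
  haveI : Mono i := Over.mono_of_mono_left i
  haveI : LocallyQuasiFinite K.hom := LocallyQuasiFinite.of_finite_preimage_singleton K.hom fun s => by
    let Ω := AlgebraicClosure (S.residueField s)
    let q : Spec (CommRingCat.of Ω) ⟶ S :=
      Spec.map (CommRingCat.ofHom (algebraMap (S.residueField s) Ω)) ≫ S.fromSpecResidueField s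
    haveI : Subsingleton ↥(Spec (CommRingCat.of Ω)) := inferInstanceAs (Subsingleton (PrimeSpectrum Ω))
    have hq : ∀ z, q z = s := fun z => (Scheme.Hom.comp_apply _ _ z).trans (Scheme.fromSpecResidueField_apply _ _)
    let KΩ : Over (Spec (CommRingCat.of Ω)) := Over.mk (pullback.snd K.hom q)
    haveI : IsProper KΩ.hom := inferInstanceAs (IsProper (pullback.snd K.hom q))
    haveI : JacobsonSpace KΩ.left := LocallyOfFiniteType.jacobsonSpace KΩ.hom
    haveI : CompactSpace KΩ.left := QuasiCompact.compactSpace_of_compactSpace KΩ.hom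
    let toK : (𝟙_ (Over (Spec (CommRingCat.of Ω))) ⟶ KΩ) → (Over.mk q ⟶ A) := fun a =>
      (Over.homMk (a.left ≫ pullback.fst K.hom q) (by
        show (a.left ≫ _) ≫ K.hom = q
        rw [Category.assoc, pullback.condition, ← Category.assoc]
        exact (congrArg (· ≫ q) (Over.w a)).trans (Category.id_comp _)) : Over.mk q ⟶ K) ≫ i
    have htoK : Function.Injective toK := fun a b h => by
      have h' := (cancel_mono i).1 h
      exact Over.OverMorphism.ext (pullback.hom_ext (congrArg CommaMorphism.left h') ((Over.w a).trans (Over.w b).symm))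
    haveI : Finite (𝟙_ (Over (Spec (CommRingCat.of Ω))) ⟶ KΩ) := by
      haveI := (finite_mumfordTriv L hL hL' q).to_subtype
      exact Finite.of_injective (fun a => (⟨toK a, (hK.univ _ _).2 ⟨_, rfl⟩⟩ :
        {z : Over.mk q ⟶ A | ThetaGrp.IsMumfordTriv A L z})) fun a b h => htoK (congrArg Subtype.val h)
    have hfin : (closedPoints KΩ.left).Finite := (Set.finite_range (kpt (A := KΩ))).subset fun x hx => by
      obtain ⟨a, ha⟩ := exists_kpt x (mem_closedPoints_iff.1 hx)
      exact ⟨a, ha⟩
    haveI := JacobsonSpace.discreteTopology hfin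
    haveI : Finite KΩ.left := finite_of_compact_of_discrete
    refine (Set.finite_range fun z : KΩ.left => pullback.fst K.hom q z).subset fun x hx => ?_
    obtain ⟨z, hz, -⟩ := Scheme.Pullback.exists_preimage_pullback x (IsLocalRing.closedPoint Ω)
      ((show K.hom x = s from hx).trans (hq _).symm)
    exact ⟨z, hz⟩
  exact IsFinite.of_isProper_of_locallyQuasiFinite K.hom

end Groth.Agent.KLFinite
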