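/-
The condition defining `K(L)`, in classes.
-/
import Groth.Agent.L26.AbDual.Cancel
import Groth.Prelude.Def_ThetaK

open CategoryTheory CategoryTheory.Limits AlgebraicGeometry TopologicalSpace Opposite
open MonoidalCategory CartesianMonoidalCategory MonObj GrpObj
open Groth.Agent.AbDualLib

universe u

noncomputable section

namespace Groth.Agent.KLLib

variable {S : Scheme.{u}} {A : Over S} [GrpObj A]

/-- Translation by `z` multiplies the pullback of `c` by `z^*c`. -/
def Inv (c : PicF.Cl A.left) {T : Over S} (z : T ⟶ A) : Prop :=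
  PicF.pullCl (fst A T * (snd A T ≫ z)).left c =
    PicGrp.mulCl (PicF.pullCl (fst A T).left c) (PicF.pullCl (snd A T ≫ z).left c)

variable {c : PicF.Cl A.left} {T : Over S} {z : T ⟶ A}

theorem whiskerLeft_comp_mul (z : T ⟶ A) : (A ◁ z) ≫ μ[A] = fst A T * (snd A T ≫ z) := by
  rw [Hom.mul_def]
  congr 1

theorem Inv.at (h : Inv c z) {T' : Over S} (q : T' ⟶ A) (j : T' ⟶ T) :
    PicF.pullCl (q * (j ≫ z)).left c = PicGrp.mulCl (PicF.pullCl q.left c) (PicF.pullCl (j ≫ z).left c) := by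
  have h' := congrArg (PicF.pullCl (lift q j).left) h
  rw [pullCl_mulCl] at h'
  erw [pullCl_left_comp (lift q j) (fst A T), pullCl_left_comp (lift q j) (snd A T ≫ z),
    pullCl_left_comp (lift q j) (fst A T * (snd A T ≫ z))] at h'
  rwa [MonObj.comp_mul, lift_fst, lift_snd_assoc] at h'

theorem Inv.at_self (h : Inv c z) (q : T ⟶ A) :
    PicF.pullCl (q * z).left c = PicGrp.mulCl (PicF.pullCl q.left c) (PicF.pullCl z.left c) := by
  have := h.at q (𝟙 T)
  rwa [Category.id_comp] at this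

theorem pullCl_one (h1 : PicF.pullCl η[A].left c = oneCl _) (T : Over S) :
    PicF.pullCl (1 : T ⟶ A).left c = oneCl _ := by
  rw [Hom.one_def, Over.comp_left, PicLoc.pullCl_comp, h1]
  exact pullCl_oneCl _

theorem inv_one (h1 : PicF.pullCl η[A].left c = oneCl _) : Inv c (1 : T ⟶ A) := by
  rw [Inv, MonObj.comp_one, _root_.mul_one, pullCl_one h1, mul_oneCl]

theorem Inv.mul {a b : T ⟶ A} (ha : Inv c a) (hb : Inv c b) : Inv c (a * b) := by
  rw [Inv, MonObj.comp_mul, ← _root_.mul_assoc, hb.at _ (snd A T), ha, hb.at _ (snd A T)]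
  exact mulCl_assoc _ _ _

theorem Inv.inv (hc : PicF.IsInvertibleCl c) (h1 : PicF.pullCl η[A].left c = oneCl _) (h : Inv c z) :
    Inv c z⁻¹ := by
  have e1 : PicGrp.mulCl (PicF.pullCl (snd A T ≫ z⁻¹).left c) (PicF.pullCl (snd A T ≫ z).left c) = oneCl _ := by
    rw [← h.at (snd A T ≫ z⁻¹) (snd A T), GrpObj.comp_inv, inv_mul_cancel, pullCl_one h1]
  refine mulCl_right_cancel (PicLoc.isInvertibleCl_pullCl _ hc)
    (isInvertibleCl_mulCl (PicLoc.isInvertibleCl_pullCl _ hc) (PicLoc.isInvertibleCl_pullCl _ hc))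
    (PicLoc.isInvertibleCl_pullCl (snd A T ≫ z).left hc) ?_
  rw [mulCl_assoc, e1, mul_oneCl, GrpObj.comp_inv, ← h.at _ (snd A T), inv_mul_cancel_right]

/-- A module on the base making up the translated class is `z^*c`. -/
theorem eq_pullCl_of_eq (h1 : PicF.pullCl η[A].left c = oneCl _) {m : PicF.Cl T.left}
    (h : PicGrp.mulCl (PicF.pullCl (fst A T).left c) (PicF.pullCl (snd A T).left m) =
      PicF.pullCl (fst A T * (snd A T ≫ z)).left c) : m = PicF.pullCl z.left c := by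
  have h' := congrArg (PicF.pullCl (lift (1 : T ⟶ A) (𝟙 T)).left) h
  rw [pullCl_mulCl] at h'
  erw [pullCl_left_comp (lift (1 : T ⟶ A) (𝟙 T)) (fst A T), pullCl_left_comp (lift (1 : T ⟶ A) (𝟙 T)) (snd A T),
    pullCl_left_comp (lift (1 : T ⟶ A) (𝟙 T)) (fst A T * (snd A T ≫ z))] at h'
  rwa [MonObj.comp_mul, lift_fst, lift_snd, lift_snd_assoc, Category.id_comp, _root_.one_mul, pullCl_one h1,
    oneCl_mul, Over.id_left, PicLoc.pullCl_id] at h'

theorem Inv.of_eq (h1 : PicF.pullCl η[A].left c = oneCl _) {m : PicF.Cl T.left}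
    (h : PicGrp.mulCl (PicF.pullCl (fst A T).left c) (PicF.pullCl (snd A T).left m) =
      PicF.pullCl (fst A T * (snd A T ≫ z)).left c) : Inv c z := by
  rw [Inv, ← h, eq_pullCl_of_eq h1 h]
  erw [pullCl_left_comp (snd A T) z]

variable (L : A.left.Modules) (hL : PicF.IsInvertible L) (h1 : PicF.pullCl η[A].left (PicF.cl L) = oneCl _)

include hL h1 in
/-- The defining condition of `K(L)`. -/
theorem isMumfordTriv_iff : ThetaGrp.IsMumfordTriv A L z ↔ Inv (PicF.cl L) z := by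
  have hc : PicF.IsInvertibleCl (PicF.cl L) := ⟨L, rfl, hL⟩
  constructor
  · rintro ⟨M, hM, ⟨ψ⟩⟩
    have h : PicGrp.mulCl (PicGrp.mulCl (PicF.pullCl (snd A T).left (PicF.cl M))
        (PicF.pullCl (fst A T).left (PicF.cl L))) (PicF.pullCl (snd A T ≫ z).left (PicF.cl L)) =
        PicF.pullCl ((A ◁ z) ≫ μ[A]).left (PicF.cl L) := (PicGrp.cl_eq_cl_iff _ _).2 ⟨ψ⟩
    rw [whiskerLeft_comp_mul] at h
    refine Inv.of_eq h1 (m := PicGrp.mulCl (PicF.cl M) (PicF.pullCl z.left (PicF.cl L))) ?_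
    rw [← h, pullCl_mulCl, ← mulCl_assoc, mulCl_comm (PicF.pullCl (fst A T).left (PicF.cl L))]
    erw [pullCl_left_comp (snd A T) z]
  · intro h
    refine ⟨Coh.structureModule _, Groth.L18.Ample.isInvertible_structureModule _, (PicGrp.cl_eq_cl_iff _ _).1 ?_⟩
    show PicGrp.mulCl (PicGrp.mulCl (PicF.pullCl (snd A T).left (oneCl _))
      (PicF.pullCl (fst A T).left (PicF.cl L))) (PicF.pullCl (snd A T ≫ z).left (PicF.cl L)) = _
    rw [pullCl_oneCl]
    show PicGrp.mulCl (PicGrp.mulCl (oneCl _) _) _ = PicF.pullCl ((A ◁ z) ≫ μ[A]).left (PicF.cl L)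
    rw [oneCl_mul, whiskerLeft_comp_mul, h]

include hL h1 in
theorem factors_iff {K : Over S} {i : K ⟶ A} (hK : ThetaGrp.IsKL A L i) :
    (∃ y : T ⟶ K, y ≫ i = z) ↔ Inv (PicF.cl L) z :=
  (hK.univ T z).symm.trans (isMumfordTriv_iff L hL h1)

end Groth.Agent.KLLib

namespace Groth.Agent.KLLib

theorem pullCl_unit_eq_one {k : Type u} [Field k] {A : Over (Spec (CommRingCat.of k))} [GrpObj A]
    {c : PicF.Cl A.left} (hc : PicF.IsInvertibleCl c) : PicF.pullCl η[A].left c = oneCl _ :=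
  haveI : Subsingleton ↥((𝟙_ (Over (Spec (CommRingCat.of k)))).left) :=
    inferInstanceAs (Subsingleton (PrimeSpectrum k))
  eq_oneCl_of_subsingleton (PicLoc.isInvertibleCl_pullCl _ hc)

/-- A class on `X × P` trivial on one slice is a Pic⁰ class when `P` is geometrically connected of finite type. -/
theorem isPicZeroCl_of_slice {k : Type u} [Field k] (X P : Over (Spec (CommRingCat.of k)))
    [LocallyOfFiniteType P.hom] [QuasiCompact P.hom] [GeometricallyConnected P.hom]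
    (e : 𝟙_ (Over (Spec (CommRingCat.of k))) ⟶ P) {c : PicF.Cl (PicF.XT X.hom P)} (hc : PicF.IsInvertibleCl c)
    (h0 : PicF.pullCl (PicF.XTmap X.hom e) c = oneCl _) : AbDual.IsPicZeroCl X.hom P c := by
  obtain ⟨M, hM, hMi⟩ := hc
  refine ⟨M, hM, hMi, fun t Ω _ _ τ hτ => ?_⟩
  let v := τ ≫ P.hom
  let q : pullback P.hom v ⟶ Spec (CommRingCat.of Ω) := pullback.snd P.hom v
  haveI : LocallyOfFiniteType q := inferInstanceAs (LocallyOfFiniteType (pullback.snd P.hom v))
  haveI : QuasiCompact q := inferInstanceAs (QuasiCompact (pullback.snd P.hom v))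
  haveI : GeometricallyConnected q := inferInstanceAs (GeometricallyConnected (pullback.snd P.hom v))
  haveI : ConnectedSpace ↥(pullback P.hom v) := by
    haveI : Subsingleton ↥(Spec (CommRingCat.of Ω)) := inferInstanceAs (Subsingleton (PrimeSpectrum Ω))
    exact GeometricallyConnected.connectedSpace_of_subsingleton q
  let j : overPt v q ⟶ P := Over.homMk (pullback.fst P.hom v) pullback.condition
  let t₀ : Spec (CommRingCat.of Ω) ⟶ pullback P.hom v :=
    pullback.lift (v ≫ e.left) (𝟙 _) (by rw [Category.assoc, Over.w e, Category.id_comp]; exact Category.comp_id _)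
  have ht₀ : t₀ ≫ q = 𝟙 _ := pullback.lift_snd _ _ _
  have hp0 : AbDual.IsPicZeroCl X.hom (overPt v q) (PicF.pullCl (PicF.XTmap X.hom j) c) := by
    refine isPicZeroCl_of_family X.hom v q _ (PicLoc.isInvertibleCl_pullCl _ ⟨M, hM, hMi⟩) t₀ ht₀ ?_
    have e1 : ptHom v q t₀ ht₀ ≫ j = toUnit (Over.mk v) ≫ e := by
      ext1
      show t₀ ≫ pullback.fst P.hom v = _
      rw [pullback.lift_fst, Over.comp_left, Over.toUnit_left]
      rfl
    rw [← PicLoc.pullCl_comp, ← XTmap_comp, e1, XTmap_comp, PicLoc.pullCl_comp, h0, pullCl_oneCl]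
  obtain ⟨M', hM', hM'i, hfib⟩ := hp0
  let τ' : Spec (CommRingCat.of Ω) ⟶ pullback P.hom v := pullback.lift τ (𝟙 _) (Category.id_comp _).symm
  obtain ⟨pt⟩ : Nonempty ↥(Spec (CommRingCat.of Ω)) := inferInstance
  haveI : Subsingleton ↥(Spec (CommRingCat.of Ω)) := inferInstanceAs (Subsingleton (PrimeSpectrum Ω))
  have hr : Set.range τ'.base = {τ' pt} :=
    Set.ext fun y => ⟨fun ⟨z, hz⟩ => hz ▸ congrArg τ' (Subsingleton.elim z pt), fun hy => ⟨pt, hy.symm⟩⟩
  let e2 : pullback (PicF.XTproj X.hom P) τ ⟶ pullback (PicF.XTproj X.hom (overPt v q)) τ' :=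
    pullback.lift (pullback.lift (pullback.fst _ τ ≫ pullback.fst X.hom P.hom) (pullback.snd _ τ ≫ τ') (by
        rw [Category.assoc, pullback.condition, pullback.condition_assoc]
        show _ = (pullback.snd _ τ ≫ τ') ≫ q ≫ v
        rw [Category.assoc, pullback.lift_snd_assoc, Category.id_comp]))
      (pullback.snd _ τ) (pullback.lift_snd _ _ _)
  have he2 : (e2 ≫ pullback.fst (PicF.XTproj X.hom (overPt v q)) τ') ≫ PicF.XTmap X.hom j =
      pullback.fst (PicF.XTproj X.hom P) τ := by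
    rw [pullback.lift_fst]
    apply pullback.hom_ext
    · rw [Category.assoc, XTmap_fst, pullback.lift_fst]
    · rw [Category.assoc, XTmap_snd, pullback.lift_snd_assoc, Category.assoc]
      show _ ≫ τ' ≫ pullback.fst P.hom v = _
      rw [pullback.lift_fst]
      exact (pullback.condition (f := PicF.XTproj X.hom P) (g := τ)).symm
  have key := @isAlgEquivZero_pullback Ω _ _ _ ⟨pullback.snd _ _⟩ ⟨pullback.snd _ _⟩ e2
    (pullback.lift_snd _ _ _) _ (hfib (τ' pt) Ω τ' hr)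
  have hcl : PicF.pullCl e2 (PicF.pullCl (pullback.fst (PicF.XTproj X.hom (overPt v q)) τ') (PicF.cl M')) =
      PicF.pullCl (pullback.fst (PicF.XTproj X.hom P) τ) (PicF.cl M) := by
    rw [hM', ← hM, ← PicLoc.pullCl_comp, ← PicLoc.pullCl_comp, he2]
  obtain ⟨Q, p, h1, h2, h3, N, hN, a, a₀, ha, ha₀, ⟨φ⟩, h4⟩ := key
  exact ⟨Q, p, h1, h2, h3, N, hN, a, a₀, ha, ha₀, ⟨φ ≪≫ ((PicGrp.cl_eq_cl_iff _ _).1 hcl).some⟩, h4⟩

end Groth.Agent.KLLib
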