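/-
Points of theta groups and the classes they identify.
-/
import Groth.Agent.L26.KL.Basic
import Groth.Prelude.Def_ThetaGrp

open CategoryTheory CategoryTheory.Limits AlgebraicGeometry TopologicalSpace Opposite
open MonoidalCategory CartesianMonoidalCategory MonObj GrpObj
open CategoryTheory.Pseudofunctor
open Groth.Agent.AbDualLib

universe u

noncomputable section

namespace Groth.Agent.KLLib

variable {X Y : CoGrothendieck (ThetaGrp.modPF.{u})}

theorem isIso_id_fiber (Y : CoGrothendieck (ThetaGrp.modPF.{u})) : IsIso (𝟙 Y : Y ⟶ Y).fiber :=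
  ((Cat.Hom.toNatIso (ThetaGrp.modPF.mapId ⟨op Y.base⟩)).app Y.fiber).isIso_inv

theorem isIso_mapComp_inv_app {P Q R : Scheme.{u}} (a : P ⟶ Q) (b : Q ⟶ R) (M : R.Modules) :
    IsIso ((ThetaGrp.modPF.mapComp b.op.toLoc a.op.toLoc).inv.toNatTrans.app M) :=
  ((Cat.Hom.toNatIso (ThetaGrp.modPF.mapComp b.op.toLoc a.op.toLoc)).app M).isIso_inv

theorem exists_retraction (f : X ⟶ Y) [IsIso f.base] [IsIso f.fiber] :
    ∃ g : Y ⟶ X, g ≫ f = 𝟙 Y ∧ IsIso g.base ∧ IsIso g.fiber := by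
  haveI := isIso_mapComp_inv_app (CategoryTheory.inv f.base) f.base Y.fiber
  haveI := isIso_id_fiber Y
  let R := (ThetaGrp.modPF.map (CategoryTheory.inv f.base).op.toLoc).toFunctor.map f.fiber ≫
    (ThetaGrp.modPF.mapComp f.base.op.toLoc (CategoryTheory.inv f.base).op.toLoc).inv.toNatTrans.app Y.fiber
  haveI : IsIso R := inferInstance
  have e : (CategoryTheory.inv f.base ≫ f.base) = 𝟙 Y.base := IsIso.inv_hom_id _
  let g : Y ⟶ X := ⟨CategoryTheory.inv f.base, ((𝟙 Y : Y ⟶ Y).fiber ≫ eqToHom (by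
    exact congrArg (fun h : Y.base ⟶ Y.base => (ThetaGrp.modPF.map h.op.toLoc).toFunctor.obj Y.fiber) e.symm)) ≫
      CategoryTheory.inv R⟩
  refine ⟨g, ?_, inferInstanceAs (IsIso (CategoryTheory.inv f.base)), ?_⟩
  · refine CoGrothendieck.Hom.ext _ _ e ?_
    show (((𝟙 Y : Y ⟶ Y).fiber ≫ eqToHom _) ≫ CategoryTheory.inv R) ≫ R = _
    exact (Category.assoc _ _ _).trans ((congrArg (_ ≫ ·) (IsIso.inv_hom_id R)).trans (Category.comp_id _))
  · exact inferInstanceAs (IsIso (((𝟙 Y : Y ⟶ Y).fiber ≫ eqToHom _) ≫ CategoryTheory.inv R))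

theorem isIso_of_base_fiber (f : X ⟶ Y) [IsIso f.base] [IsIso f.fiber] : IsIso f := by
  obtain ⟨g, hg, _, _⟩ := exists_retraction f
  obtain ⟨g', hg', -, -⟩ := exists_retraction g
  have : g' = f := by rw [← Category.comp_id g', ← hg, ← Category.assoc, hg', Category.id_comp]
  exact ⟨g, this ▸ hg', hg⟩

theorem isIso_fiber (f : X ⟶ Y) [IsIso f] : IsIso f.fiber := by
  obtain ⟨g, hg, hg'⟩ : ∃ g, f ≫ g = 𝟙 _ ∧ g ≫ f = 𝟙 _ := ⟨inv f, IsIso.hom_inv_id f, IsIso.inv_hom_id f⟩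
  have e1 := CoGrothendieck.Hom.congr hg
  have e2 := CoGrothendieck.Hom.congr hg'
  haveI := isIso_id_fiber X
  haveI := isIso_id_fiber Y
  haveI := isIso_mapComp_inv_app g.base f.base Y.fiber
  haveI : IsSplitMono f.fiber := by
    have hi : IsIso (f.fiber ≫ (ThetaGrp.modPF.map f.base.op.toLoc).toFunctor.map g.fiber ≫
        (ThetaGrp.modPF.mapComp g.base.op.toLoc f.base.op.toLoc).inv.toNatTrans.app X.fiber) := by
      show IsIso (f ≫ g).fiber
      rw [e1]
      infer_instance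
    exact ⟨⟨⟨((ThetaGrp.modPF.map f.base.op.toLoc).toFunctor.map g.fiber ≫
      (ThetaGrp.modPF.mapComp g.base.op.toLoc f.base.op.toLoc).inv.toNatTrans.app X.fiber) ≫ @CategoryTheory.inv _ _ _ _ _ hi,
      by rw [← Category.assoc]; exact @IsIso.hom_inv_id _ _ _ _ _ hi⟩⟩⟩
  haveI hE : Epi ((ThetaGrp.modPF.map g.base.op.toLoc).toFunctor.map f.fiber) := by
    have hi : IsIso (g.fiber ≫ (ThetaGrp.modPF.map g.base.op.toLoc).toFunctor.map f.fiber ≫
        (ThetaGrp.modPF.mapComp f.base.op.toLoc g.base.op.toLoc).inv.toNatTrans.app Y.fiber) := by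
      show IsIso (g ≫ f).fiber
      rw [e2]
      infer_instance
    haveI : Epi ((ThetaGrp.modPF.map g.base.op.toLoc).toFunctor.map f.fiber ≫
        (ThetaGrp.modPF.mapComp f.base.op.toLoc g.base.op.toLoc).inv.toNatTrans.app Y.fiber) :=
      epi_of_epi g.fiber _
    rw [show (ThetaGrp.modPF.map g.base.op.toLoc).toFunctor.map f.fiber =
      ((ThetaGrp.modPF.map g.base.op.toLoc).toFunctor.map f.fiber ≫
        (ThetaGrp.modPF.mapComp f.base.op.toLoc g.base.op.toLoc).inv.toNatTrans.app Y.fiber) ≫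
        CategoryTheory.inv ((ThetaGrp.modPF.mapComp f.base.op.toLoc g.base.op.toLoc).inv.toNatTrans.app Y.fiber) by
      rw [Category.assoc, IsIso.hom_inv_id, Category.comp_id]]
    infer_instance
  have hb : f.base ≫ g.base = 𝟙 _ := congrArg CoGrothendieck.Hom.base hg
  haveI : (Scheme.Modules.pullback g.base).Faithful :=
    Functor.Faithful.of_comp_iso ((Scheme.Modules.pullbackComp f.base g.base) ≪≫
      Scheme.Modules.pullbackCongr hb ≪≫ Scheme.Modules.pullbackId X.base)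
  haveI : Epi f.fiber := (Scheme.Modules.pullback g.base).epi_of_epi_map (f := f.fiber) hE
  exact isIso_of_epi_of_isSplitMono _

variable {S : Scheme.{u}} {A : Over S} [GrpObj A] {L : A.left.Modules}

/-- A point of the theta group over `z` identifies the translated class with the original one. -/
theorem cl_eq_of_isOverPt {T : Over S} {z : T ⟶ A} (β : ThetaGrp.thetaPts A L T) (hβ : ThetaGrp.IsOverPt β z) :
    PicF.pullCl (fst A T * (snd A T ≫ z)).left (PicF.cl L) = PicF.pullCl (fst A T).left (PicF.cl L) := by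
  haveI := isIso_fiber β.1.hom
  refine Eq.trans ?_ ((PicGrp.cl_eq_cl_iff _ _).2 ⟨@asIso _ _ _ _ β.1.hom.fiber (isIso_fiber β.1.hom)⟩).symm
  show _ = PicF.pullCl β.1.hom.base (PicF.pullCl (fst A T).left (PicF.cl L))
  rw [show β.1.hom.base = (ThetaGrp.transl A z).left from hβ]
  erw [pullCl_left_comp (ThetaGrp.transl A z) (fst A T)]
  rw [ThetaGrp.transl_fst]

/-- Conversely. -/
theorem exists_isOverPt {T : Over S} {z : T ⟶ A}
    (h : PicF.pullCl (fst A T * (snd A T ≫ z)).left (PicF.cl L) = PicF.pullCl (fst A T).left (PicF.cl L)) :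
    ∃ β : ThetaGrp.thetaPts A L T, ThetaGrp.IsOverPt β z := by
  rw [← ThetaGrp.transl_fst, Over.comp_left, PicLoc.pullCl_comp] at h
  obtain ⟨φ⟩ := (PicGrp.cl_eq_cl_iff _ _).1 h
  let f : ThetaGrp.thetaObj A L T ⟶ ThetaGrp.thetaObj A L T := ⟨(ThetaGrp.transl A z).left, φ.inv⟩
  haveI : IsIso f.base := ⟨(ThetaGrp.transl A z⁻¹).left,
    by show (ThetaGrp.transl A z).left ≫ _ = _
       rw [← Over.comp_left, ← ThetaGrp.transl_mul, mul_inv_cancel, ThetaGrp.transl_one]; rfl,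
    by show _ ≫ (ThetaGrp.transl A z).left = _
       rw [← Over.comp_left, ← ThetaGrp.transl_mul, inv_mul_cancel, ThetaGrp.transl_one]; rfl⟩
  haveI : IsIso f.fiber := inferInstanceAs (IsIso φ.inv)
  haveI := isIso_of_base_fiber f
  exact ⟨⟨asIso f, ⟨z, rfl⟩⟩, rfl⟩

end Groth.Agent.KLLib
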