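/-
Ranks of finite schemes over a field.
-/
import Groth.Agent.L26.Theta.Split
import Mathlib.AlgebraicGeometry.Morphisms.FlatRank
import Mathlib.RingTheory.LocalRing.Module
import Mathlib.RingTheory.Spectrum.Prime.FreeLocus
import Mathlib.RingTheory.Artinian.Module

open CategoryTheory CategoryTheory.Limits AlgebraicGeometry TopologicalSpace Opposite
open MonoidalCategory CartesianMonoidalCategory
open Groth.Agent.ThetaSplit
open scoped TensorProduct

universe u

noncomputable section

namespace Groth.Agent.KLRank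

set_option backward.isDefEq.respectTransparency false
set_option linter.style.haveILetI false

variable {k : Type u} [Field k]

theorem finrank_quot_eq_rankAtStalk {R M : Type u} [CommRing R] [AddCommGroup M] [Module R M]
    [Module.Finite R M] [Module.Flat R M] (P : MaximalSpectrum R) :
    Module.finrank (R ⧸ P.1) ((R ⧸ P.1) ⊗[R] M) = Module.rankAtStalk M ⟨P.1, inferInstance⟩ := by
  letI := Ideal.Quotient.field P.1
  rw [Module.rankAtStalk_eq]
  have := (TensorProduct.AlgebraTensorModule.cancelBaseChange R (R ⧸ P.1) P.1.ResidueField P.1.ResidueField M).finrank_eq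
  rw [Module.finrank_baseChange (R := P.1.ResidueField) (S := R ⧸ P.1) (M' := (R ⧸ P.1) ⊗[R] M)] at this
  exact this

/-- The functions on a scheme over the field, as an algebra. -/
def gamma (T : Over (Spec (CommRingCat.of k))) : Algebra k Γ(T.left, ⊤) := (al T).toAlgebra

theorem finite_al (T : Over (Spec (CommRingCat.of k))) [IsFinite T.hom] : (al T).Finite :=
  RingHom.Finite.comp T.hom.finite_appTop
    (RingHom.Finite.of_surjective _ (Scheme.ΓSpecIso (CommRingCat.of k)).commRingCatIsoToRingEquiv.symm.surjective)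

theorem isAffine_of_finite (T : Over (Spec (CommRingCat.of k))) [IsFinite T.hom] : IsAffine T.left :=
  isAffine_of_isAffineHom T.hom

/-- The rank of a morphism of affine schemes is the rank of its map of functions. -/
theorem finrank_eq_appTop {X Y : Scheme.{u}} [IsAffine X] [IsAffine Y] (f : X ⟶ Y) [IsFinite f] [Flat f]
    (y : Y) : Scheme.Hom.finrank f y = f.appTop.hom.finrank (Y.isoSpec.hom y) := by
  rw [← Scheme.Hom.finrank_SpecMap_eq_finrank f.finite_appTop f.flat_appTop]
  haveI : IsFinite (Spec.map f.appTop) := by rw [IsFinite.SpecMap_iff]; exact f.finite_appTop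
  haveI : Flat (Spec.map f.appTop) := by rw [Flat.SpecMap_iff]; exact f.flat_appTop
  exact Scheme.Hom.finrank_of_isPullback X.isoSpec.hom f (Spec.map f.appTop) Y.isoSpec.hom
    (IsPullback.of_horiz_isIso ⟨Scheme.isoSpec_hom_naturality f⟩) y

/-- The rank of a finite scheme over the field is the dimension of its functions. -/
theorem finrank_hom_eq (T : Over (Spec (CommRingCat.of k))) [IsFinite T.hom] (s : ↥(Spec (CommRingCat.of k))) :
    letI := gamma T
    Scheme.Hom.finrank T.hom s = Module.finrank k Γ(T.left, ⊤) := by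
  letI := gamma T
  haveI := isAffine_of_finite T
  haveI : Module.Finite k Γ(T.left, ⊤) := finite_al T
  have h : IsPullback T.left.isoSpec.hom T.hom (Spec.map (CommRingCat.ofHom (al T))) (𝟙 _) := by
    refine IsPullback.of_horiz_isIso ⟨?_⟩
    rw [Category.comp_id]
    show T.left.isoSpec.hom ≫ Spec.map ((Scheme.ΓSpecIso (CommRingCat.of k)).inv ≫ T.hom.appTop) = T.hom
    rw [Spec.map_comp, Scheme.isoSpec_hom_naturality_assoc]
    simp [Scheme.isoSpec_Spec_hom, ← Spec.map_comp]
  haveI : IsFinite (Spec.map (CommRingCat.ofHom (al T))) := by rw [IsFinite.SpecMap_iff]; exact finite_al T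
  haveI : Flat (Spec.map (CommRingCat.ofHom (al T))) := by
    rw [Flat.SpecMap_iff]; exact RingHom.flat_algebraMap_iff.2 (inferInstance : Module.Flat k Γ(T.left, ⊤))
  rw [Scheme.Hom.finrank_of_isPullback _ _ _ _ h s]
  exact (Scheme.Hom.finrank_SpecMap_algebraMap k Γ(T.left, ⊤) _).trans (congrFun Module.rankAtStalk_eq_finrank_of_free _)

/-- The rank of a composite of constant rank. -/
theorem finrank_comp {X Y : Over (Spec (CommRingCat.of k))} (f : X ⟶ Y) [IsFinite f.left] [Flat f.left]
    [IsFinite Y.hom] {d : ℕ} (hd : ∀ y, Scheme.Hom.finrank f.left y = d) (s : ↥(Spec (CommRingCat.of k))) :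
    IsFinite X.hom ∧ Scheme.Hom.finrank X.hom s = d * Scheme.Hom.finrank Y.hom s := by
  haveI : IsFinite X.hom := by rw [← Over.w f]; infer_instance
  refine ⟨inferInstance, ?_⟩
  haveI := isAffine_of_finite X
  haveI := isAffine_of_finite Y
  rw [finrank_hom_eq X, finrank_hom_eq Y]
  letI := gamma X
  letI := gamma Y
  haveI : Module.Finite k Γ(Y.left, ⊤) := finite_al Y
  haveI : IsArtinianRing Γ(Y.left, ⊤) := IsArtinianRing.of_finite k Γ(Y.left, ⊤)
  letI : Algebra Γ(Y.left, ⊤) Γ(X.left, ⊤) := f.left.appTop.hom.toAlgebra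
  haveI : IsScalarTower k Γ(Y.left, ⊤) Γ(X.left, ⊤) :=
    IsScalarTower.of_algebraMap_eq fun t => (pl_al f t).symm
  haveI : Module.Finite Γ(Y.left, ⊤) Γ(X.left, ⊤) := f.left.finite_appTop
  haveI : Module.Flat Γ(Y.left, ⊤) Γ(X.left, ⊤) := f.left.flat_appTop
  obtain ⟨b⟩ := Module.nonempty_basis_of_flat_of_finrank_eq Γ(Y.left, ⊤) Γ(X.left, ⊤) d fun P => by
    rw [finrank_quot_eq_rankAtStalk]
    obtain ⟨y, hy⟩ : ∃ y, Y.left.isoSpec.hom y = (⟨P.1, inferInstance⟩ : PrimeSpectrum Γ(Y.left, ⊤)) :=
      Y.left.isoSpec.hom.homeomorph.surjective _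
    rw [← hd y, finrank_eq_appTop f.left y, hy, ← RingHom.finrank_algebraMap]
    rfl
  haveI : Module.Free Γ(Y.left, ⊤) Γ(X.left, ⊤) := .of_basis b
  by_cases hd0 : Nontrivial Γ(Y.left, ⊤)
  · rw [← Module.finrank_mul_finrank k Γ(Y.left, ⊤) Γ(X.left, ⊤), Module.finrank_eq_card_basis b,
      Fintype.card_fin, mul_comm]
  · rw [not_nontrivial_iff_subsingleton] at hd0
    haveI : Subsingleton Γ(X.left, ⊤) := Module.subsingleton Γ(Y.left, ⊤) _
    rw [Module.finrank_zero_of_subsingleton, Module.finrank_zero_of_subsingleton, Nat.mul_zero]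

end Groth.Agent.KLRank
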