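/-
Existence of `K(L)`.
-/
import Groth.Agent.L26.KL.Basic
import Groth.Agent.L20.DescLocus.Rep
import Groth.Agent.L20.DescLocus.AppIso
import Groth.Agent.L20.ResAmple
import Groth.Agent.L23.SchemeFacts
import Groth.Agent.S7188
import Groth.Agent.L08.Cube.ThreeMaps
import Groth.Agent.L26.AV.Isogeny

open CategoryTheory CategoryTheory.Limits AlgebraicGeometry TopologicalSpace Opposite
open MonoidalCategory CartesianMonoidalCategory MonObj GrpObj
open Groth.Agent.AbDualLib

universe u

noncomputable section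

namespace Groth.Agent.KLLib

set_option backward.isDefEq.respectTransparency false
set_option backward.isDefEq.respectTransparency.types false
set_option linter.style.haveILetI false

/-- `K(L)` exists. -/
theorem exists_isKL (k : Type u) [Field k] (A : Over (Spec (CommRingCat.of k))) [GrpObj A]
    [IsProper A.hom] [GeometricallyIntegral A.hom] (L : A.left.Modules) (hL : PicF.IsInvertible L) :
    ∃ (K : Over (Spec (CommRingCat.of k))) (i : K ⟶ A), ThetaGrp.IsKL A L i := by
  open Groth.L20.DescLocus in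
  let c := PicF.cl L
  have hc : PicF.IsInvertibleCl c := ⟨L, rfl, hL⟩
  have h1 : PicF.pullCl η[A].left c = oneCl _ := pullCl_unit_eq_one hc
  let f : (A ⊗ A).left ⟶ A.left := (snd A A).left
  haveI : IsProper f := inferInstanceAs (IsProper (pullback.snd A.hom A.hom))
  haveI : Flat f := inferInstanceAs (Flat (pullback.snd A.hom A.hom))
  haveI : GeometricallyIntegral f := inferInstanceAs (GeometricallyIntegral (pullback.snd A.hom A.hom))
  haveI : IsLocallyNoetherian A.left := LocallyOfFiniteType.isLocallyNoetherian A.hom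
  haveI : LocallyOfFinitePresentation f := Groth.L23.lfp_of_lft_locallyNoetherian f
  haveI : GeometricallyConnected f := Groth.Agent.AV.Isogeny.geometricallyConnected f
  haveI := Groth.L17.PushQCoh.hasInjectiveResolutions (A ⊗ A).left
  obtain ⟨b, hb, hab⟩ := Groth.L08.Cube.exists_inverseCl (PicLoc.isInvertibleCl_pullCl (fst A A).left hc)
  have hab' : PicGrp.mulCl (PicF.pullCl (fst A A).left c) b = oneCl _ := hab
  obtain ⟨E, hEc, hEi⟩ := isInvertibleCl_mulCl (PicLoc.isInvertibleCl_pullCl μ[A].left hc) hb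
  have hE : FlatMod.IsFinLocFree E := Groth.L20.ResDescent.isFinLocFree_of_isInvertible hEi
  haveI : Coh.IsQCoh E := Groth.L29.DC.PCQCoh.isQCoh_of_isFinLocFree hE
  have hfp : CohB1.IsFP E := Groth.L18.LFP.isFP_of_isFinLocFree E hE
  have hfl : FlatMod.IsFlatOver f E := fun x => by
    letI := (f.stalkMap x).hom.toAlgebra
    letI := FlatMod.moduleStalkOver f E x
    haveI : IsScalarTower (A.left.presheaf.stalk (f x)) ((A ⊗ A).left.presheaf.stalk x) (E.presheaf.stalk x) :=
      IsScalarTower.of_algebraMap_smul fun _ _ => rfl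
    haveI : Module.Flat (A.left.presheaf.stalk (f x)) ((A ⊗ A).left.presheaf.stalk x) := Flat.stalkMap f x
    haveI : Module.Flat ((A ⊗ A).left.presheaf.stalk x) (E.presheaf.stalk x) :=
      Groth.L29.DC.isFlat_of_isFinLocFree hE x
    exact Module.Flat.trans (A.left.presheaf.stalk (f x)) ((A ⊗ A).left.presheaf.stalk x) (E.presheaf.stalk x)
  have hO := Groth.L20.DescLocus.isIso_app_baseChange f
  obtain ⟨Z, j, _, _, h⟩ := Groth.L20.DescLocus.exists_subscheme f E hO hfp hfl hE
  have hdesc := fun T g => (h T g).trans (Groth.L20.DescLocus.desc_iff f E hO hfp hfl hE g)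
  have hgeo : ∀ (F : Type u) [Field F] (x : Spec (CommRingCat.of F) ⟶ A.left), IsIntegral (pullback f x) :=
    fun F _ x => pullback_of_geometrically GeometricallyIntegral.geometrically_isIntegral F x
  haveI : IsClosedImmersion j := Groth.Agent.S7188.result f hO E hEi j hdesc hgeo
  refine ⟨Over.mk (j ≫ A.hom), Over.homMk j rfl, ⟨‹_›, fun T z => ?_⟩⟩
  rw [isMumfordTriv_iff L hL h1]
  let P := pullback f z.left
  let e : (A ⊗ T).left ⟶ P := pullback.lift (A ◁ z).left (snd A T).left (by
    show (A ◁ z).left ≫ (snd A A).left = _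
    rw [← Over.comp_left, ← Over.comp_left, whiskerLeft_snd])
  let e' : P ⟶ (A ⊗ T).left := pullback.lift (pullback.fst f z.left ≫ (fst A A).left) (pullback.snd f z.left) (by
    rw [Category.assoc, Over.w (fst A A)]
    show pullback.fst f z.left ≫ (A ⊗ A).hom = _
    rw [← Over.w (snd A A), ← Category.assoc, show pullback.fst f z.left ≫ (snd A A).left = _ from pullback.condition,
      Category.assoc, Over.w])
  have he₁ : e ≫ pullback.fst f z.left = (A ◁ z).left := pullback.lift_fst _ _ _
  have he₂ : e ≫ pullback.snd f z.left = (snd A T).left := pullback.lift_snd _ _ _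
  have he : e' ≫ e = 𝟙 P := by
    apply pullback.hom_ext
    · rw [Category.assoc, he₁, Category.id_comp]
      apply pullback.hom_ext
      · rw [Category.assoc]
        show e' ≫ ((A ◁ z).left ≫ (fst A A).left) = _
        rw [← Over.comp_left, whiskerLeft_fst]
        exact pullback.lift_fst _ _ _
      · rw [Category.assoc]
        show e' ≫ ((A ◁ z).left ≫ (snd A A).left) = pullback.fst f z.left ≫ f
        rw [← Over.comp_left, whiskerLeft_snd, Over.comp_left, pullback.condition, ← Category.assoc]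
        exact congrArg (· ≫ z.left) (pullback.lift_snd _ _ _)
    · rw [Category.assoc, he₂, Category.id_comp]
      exact pullback.lift_snd _ _ _
  have hP : PicF.pullCl e (PicF.pullCl (pullback.fst f z.left) (PicF.cl E)) =
      PicGrp.mulCl (PicF.pullCl (fst A T * (snd A T ≫ z)).left c) (PicF.pullCl (A ◁ z).left b) := by
    rw [← PicLoc.pullCl_comp, he₁, hEc, pullCl_mulCl]
    erw [pullCl_left_comp (A ◁ z) μ[A]]
    rw [whiskerLeft_comp_mul]
  have hQ : PicGrp.mulCl (PicF.pullCl (fst A T).left c) (PicF.pullCl (A ◁ z).left b) = oneCl _ := by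
    have h := congrArg (PicF.pullCl (A ◁ z).left) hab'
    rw [pullCl_mulCl, pullCl_oneCl] at h
    erw [pullCl_left_comp (A ◁ z) (fst A A)] at h
    rwa [whiskerLeft_fst] at h
  have hlocus : (∃ y : T ⟶ Over.mk (j ≫ A.hom), y ≫ Over.homMk j rfl = z) ↔
      ∃ y : T.left ⟶ Z, y ≫ j = z.left :=
    ⟨fun ⟨y, hy⟩ => ⟨y.left, congrArg CommaMorphism.left hy⟩, fun ⟨y, hy⟩ => ⟨Over.homMk y (by
      show y ≫ j ≫ A.hom = T.hom
      rw [reassoc_of% hy, Over.w]), Over.OverMorphism.ext hy⟩⟩
  rw [hlocus, hdesc T.left z.left]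
  constructor
  · intro hinv
    obtain ⟨N, hNc, hN⟩ := PicLoc.isInvertibleCl_pullCl z.left hc
    refine ⟨N, Groth.L20.ResDescent.isFinLocFree_of_isInvertible hN, (PicGrp.cl_eq_cl_iff _ _).1 ?_⟩
    show PicF.pullCl (pullback.snd f z.left) (PicF.cl N) = PicF.pullCl (pullback.fst f z.left) (PicF.cl E)
    have key : PicF.pullCl e (PicF.pullCl (pullback.snd f z.left) (PicF.cl N)) =
        PicF.pullCl e (PicF.pullCl (pullback.fst f z.left) (PicF.cl E)) := by
      rw [hP, show PicF.pullCl (fst A T * (snd A T ≫ z)).left c = _ from hinv,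
        mulCl_comm (PicF.pullCl (fst A T).left (PicF.cl L)), mulCl_assoc, hQ, mul_oneCl, ← PicLoc.pullCl_comp, he₂,
        hNc, ← PicLoc.pullCl_comp]
      rfl
    have := congrArg (PicF.pullCl e') key
    rwa [← PicLoc.pullCl_comp, ← PicLoc.pullCl_comp _ e, he, PicLoc.pullCl_id, PicLoc.pullCl_id] at this
  · rintro ⟨N, hN, ⟨φ⟩⟩
    have hφ : PicF.pullCl (pullback.snd f z.left) (PicF.cl N) = PicF.pullCl (pullback.fst f z.left) (PicF.cl E) :=
      (PicGrp.cl_eq_cl_iff _ _).2 ⟨φ⟩
    have key := congrArg (PicF.pullCl e) hφ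
    rw [hP, ← PicLoc.pullCl_comp, he₂] at key
    refine Inv.of_eq h1 (m := PicF.cl N) ?_
    rw [key, mulCl_comm (PicF.pullCl (fst A T * (snd A T ≫ z)).left c), ← mulCl_assoc, hQ, oneCl_mul]

end Groth.Agent.KLLib
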