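/-
The pairing against a finite scheme, through its coefficient functions.
-/
import Groth.Agent.L26.Theta.PairingMul
import Groth.Agent.L26.Theta.Split

open CategoryTheory CategoryTheory.Limits AlgebraicGeometry TopologicalSpace Opposite
open MonoidalCategory CartesianMonoidalCategory MonObj GrpObj
open Groth.Agent.ThetaPts Groth.Agent.ThetaPairing
open Groth.Agent.ThetaSplit (pl al pl_pl pl_al pl_id IsBas exists_isBas)

universe u

noncomputable section

namespace Groth.Agent.KLCoeff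

set_option backward.isDefEq.respectTransparency false
set_option linter.style.haveILetI false

variable {k : Type u} [Field k] {A : Over (Spec (CommRingCat.of k))} [GrpObj A] [IsCommMonObj A] (L : A.left.Modules)
  {N K : Over (Spec (CommRingCat.of k))} (i : N ⟶ A) (iK : K ⟶ A)

/-- The pairing of the points of `K` and `N`. -/
def Pairing : Type u := {e : Γ((K ⊗ N).left, ⊤)ˣ // IsPair L (fst K N ≫ iK) (snd K N ≫ i) e}

variable {L i iK}

/-- The value of the pairing at two points. -/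
def Pairing.ev (e : Pairing L i iK) {T : Over (Spec (CommRingCat.of k))} (x : T ⟶ K) (n : T ⟶ N) : Γ(T.left, ⊤)ˣ :=
  res (lift x n) e.1

theorem Pairing.isPair (e : Pairing L i iK) {T : Over (Spec (CommRingCat.of k))} (x : T ⟶ K) (n : T ⟶ N) :
    IsPair L (x ≫ iK) (n ≫ i) (e.ev x n) := by
  have := e.2.comp (lift x n)
  rwa [lift_fst_assoc, lift_snd_assoc] at this

theorem Pairing.comp_ev (e : Pairing L i iK) {T T' : Over (Spec (CommRingCat.of k))} (g : T' ⟶ T) (x : T ⟶ K)
    (n : T ⟶ N) : res g (e.ev x n) = e.ev (g ≫ x) (g ≫ n) := by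
  rw [Pairing.ev, Pairing.ev, ← res_comp, comp_lift]

/-- The constants exhaust the functions on the point. -/
theorem exists_al (r : Γ((𝟙_ (Over (Spec (CommRingCat.of k)))).left, ⊤)) : ∃ t, r = al (𝟙_ _) t := by
  refine ⟨(Scheme.ΓSpecIso (CommRingCat.of k)).hom r, ?_⟩
  show r = (𝟙 (Spec (CommRingCat.of k)) : Spec (CommRingCat.of k) ⟶ _).appTop
    (((Scheme.ΓSpecIso (CommRingCat.of k)).hom ≫ (Scheme.ΓSpecIso (CommRingCat.of k)).inv) r)
  rw [Iso.hom_inv_id, Scheme.Hom.id_appTop]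
  rfl

variable (hπ : ∀ T : Over (Spec (CommRingCat.of k)), Function.Bijective (snd A T).left.appTop)
  (hL : PicF.IsInvertible L) (hN : LocLift L i) (hK : LocLift L iK)

include hπ hL hN hK

theorem nonempty_pairing : Nonempty (Pairing L i iK) :=
  let ⟨e, he⟩ := exists_isPair hπ hL (hK.comp (fst K N)) (hN.comp (snd K N))
  ⟨⟨e, he⟩⟩

theorem Pairing.ev_mul (e : Pairing L i iK) {T : Over (Spec (CommRingCat.of k))} (x : T ⟶ K) {n n' n'' : T ⟶ N}
    (h : n'' ≫ i = (n ≫ i) * (n' ≫ i)) : e.ev x n'' = e.ev x n * e.ev x n' := by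
  have h1 := e.isPair x n''
  rw [h] at h1
  exact h1.unique hπ hL (hK.comp x) ((hN.comp n).mul (hN.comp n'))
    ((e.isPair x n).mul_right hπ hL (hK.comp x) (hN.comp n) (hN.comp n') (e.isPair x n'))

theorem Pairing.ev_one (e : Pairing L i iK) {T : Over (Spec (CommRingCat.of k))} (x : T ⟶ K) {n : T ⟶ N}
    (h : n ≫ i = 1) : e.ev x n = 1 := by
  have h1 := e.isPair x n
  rw [h] at h1
  exact h1.unique hπ hL (hK.comp x) LocLift.one (by simpa using (isPair_one_left hπ hL (x ≫ iK)).swap)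

variable [IsFinite N.hom] {d : ℕ} {b : Fin d → Γ(N.left, ⊤)} (hb : IsBas N b)
  (hspan : ∀ r : Γ(N.left, ⊤), ∃ c : Fin d → k, r = ∑ j, al N (c j) * b j)

omit hπ hL hN hK [IsFinite N.hom] in
include hb in
/-- The coefficient functions of the pairing at an affine point. -/
theorem exists_coeff (e : Pairing L i iK) {T : Over (Spec (CommRingCat.of k))} [IsAffine T.left] (x : T ⟶ K) :
    ∃ c : Fin d → Γ(T.left, ⊤), ∀ (T' : Over (Spec (CommRingCat.of k))) (g : T' ⟶ T) (n : T' ⟶ N),
      ((e.ev (g ≫ x) n : Γ(T'.left, ⊤)ˣ) : Γ(T'.left, ⊤)) = ∑ j, pl n (b j) * pl g (c j) := by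
  obtain ⟨c, hc⟩ := (hb T inferInstance).2 ((e.ev (snd N T ≫ x) (fst N T) : Γ((N ⊗ T).left, ⊤)ˣ) : Γ((N ⊗ T).left, ⊤))
  refine ⟨c, fun T' g n => ?_⟩
  have := congrArg (pl (lift n g)) hc
  simp only [map_sum, map_mul, pl_pl, lift_fst, lift_snd] at this
  rw [this]
  show _ = ((res (lift n g) (e.ev (snd N T ≫ x) (fst N T)) : Γ(T'.left, ⊤)ˣ) : Γ(T'.left, ⊤))
  rw [Pairing.comp_ev, lift_snd_assoc, lift_fst]

include hb hspan in
/-- The coefficient functions span a subalgebra. -/
theorem exists_subalgebra (e : Pairing L i iK) (h1 : ∃ o : 𝟙_ _ ⟶ N, o ≫ i = 1)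
    (h2 : ∃ m : N ⊗ N ⟶ N, m ≫ i = (fst N N ≫ i) * (snd N N ≫ i))
    {T : Over (Spec (CommRingCat.of k))} [IsAffine T.left] (x : T ⟶ K) :
    letI : Algebra k Γ(T.left, ⊤) := (al T).toAlgebra
    ∃ (c : Fin d → Γ(T.left, ⊤)) (V : Subalgebra k Γ(T.left, ⊤)),
      (∀ (T' : Over (Spec (CommRingCat.of k))) (g : T' ⟶ T) (n : T' ⟶ N),
        ((e.ev (g ≫ x) n : Γ(T'.left, ⊤)ˣ) : Γ(T'.left, ⊤)) = ∑ j, pl n (b j) * pl g (c j)) ∧
      V.toSubmodule = Submodule.span k (Set.range c) := by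
  letI : Algebra k Γ(T.left, ⊤) := (al T).toAlgebra
  obtain ⟨c, hc⟩ := exists_coeff hb e x
  have hsm : ∀ (t : k) (r : Γ(T.left, ⊤)), t • r = al T t * r := fun t r => Algebra.smul_def t r
  have hone : (1 : Γ(T.left, ⊤)) ∈ Submodule.span k (Set.range c) := by
    obtain ⟨o, ho⟩ := h1
    choose t ht using fun j => exists_al (pl o (b j))
    have h := hc T (𝟙 T) (toUnit T ≫ o)
    rw [e.ev_one hπ hL hN hK _ (by rw [Category.assoc, ho, MonObj.comp_one]), Units.val_one] at h
    rw [h]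
    refine Submodule.sum_mem _ fun j _ => ?_
    rw [← pl_pl, ht, pl_al, pl_id, ← hsm]
    exact Submodule.smul_mem _ _ (Submodule.subset_span ⟨j, rfl⟩)
  have hmul : ∀ i₀ j₀, c i₀ * c j₀ ∈ Submodule.span k (Set.range c) := by
    obtain ⟨m, hm⟩ := h2
    haveI : IsAffine N.left := isAffine_of_isAffineHom N.hom
    haveI hA2 : IsAffine (N ⊗ T).left := inferInstanceAs (IsAffine (pullback N.hom T.hom))
    choose q hq using fun l => (hb N inferInstance).2 (pl m (b l))
    choose a ha using fun l j => hspan (q l j)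
    let T' := N ⊗ (N ⊗ T)
    let n : T' ⟶ N := fst _ _
    let n' : T' ⟶ N := snd _ _ ≫ fst _ _
    let g : T' ⟶ T := snd _ _ ≫ snd _ _
    have hnn : (lift n n' ≫ m) ≫ i = (n ≫ i) * (n' ≫ i) := by
      rw [Category.assoc, hm, MonObj.comp_mul, lift_fst_assoc, lift_snd_assoc]
    have h := hc T' g (lift n n' ≫ m)
    rw [e.ev_mul hπ hL hN hK _ hnn, Units.val_mul, hc T' g n, hc T' g n', Finset.sum_mul_sum] at h
    have hml : ∀ l, pl (lift n n' ≫ m) (b l) = ∑ j, ∑ j', al T' (a l j j') * (pl n (b j) * pl n' (b j')) := fun l => by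
      rw [← pl_pl, ← hq l]
      simp only [map_sum, map_mul, pl_pl, lift_fst, lift_snd]
      refine Finset.sum_congr rfl fun j _ => ?_
      rw [ha l j]
      simp only [map_sum, map_mul, Finset.mul_sum, pl_al]
      exact Finset.sum_congr rfl fun j' _ => by ring
    have e1 := (hb (N ⊗ T) hA2).1 (a₁ := fun j => ∑ j', pl (fst N T) (b j') * pl (snd N T) (c j * c j'))
      (a₂ := fun j => ∑ j', pl (fst N T) (b j') * pl (snd N T) (∑ l, al T (a l j j') * c l)) ?_
    · intro i₀ j₀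
      have e2 := (hb T inferInstance).1 (a₁ := fun j' => c i₀ * c j')
        (a₂ := fun j' => ∑ l, al T (a l i₀ j') * c l) (congrFun e1 i₀)
      rw [congrFun e2 j₀]
      exact Submodule.sum_mem _ fun l _ => by
        rw [← hsm]; exact Submodule.smul_mem _ _ (Submodule.subset_span ⟨l, rfl⟩)
    · show ∑ j, pl n (b j) * _ = ∑ j, pl n (b j) * _
      simp only [map_sum, map_mul, pl_pl, Finset.mul_sum, pl_al]
      refine Eq.trans ?_ (h.trans ?_)
      · refine Finset.sum_congr rfl fun j _ => Finset.sum_congr rfl fun j' _ => ?_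
        ring
      · simp only [hml, Finset.sum_mul]
        rw [Finset.sum_comm]
        refine Finset.sum_congr rfl fun j _ => ?_
        rw [Finset.sum_comm]
        refine Finset.sum_congr rfl fun j' _ => Finset.sum_congr rfl fun l _ => ?_
        ring
  refine ⟨c, (Submodule.span k (Set.range c)).toSubalgebra hone fun r s hr hs => ?_, hc,
    Submodule.toSubalgebra_toSubmodule _ _ _⟩
  refine (show Submodule.span k (Set.range c) * Submodule.span k (Set.range c) ≤ _ from ?_) (Submodule.mul_mem_mul hr hs)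
  rw [Submodule.span_mul_span, Submodule.span_le]
  rintro _ ⟨_, ⟨i₀, rfl⟩, _, ⟨j₀, rfl⟩, rfl⟩
  exact hmul i₀ j₀

end Groth.Agent.KLCoeff
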