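/-
A finite algebra which is a torsor over a subalgebra has bounded rank.
-/
import Mathlib.RingTheory.Ideal.GoingUp
import Mathlib.RingTheory.TensorProduct.Quotient
import Mathlib.RingTheory.TensorProduct.Free
import Mathlib.RingTheory.Artinian.Module
import Mathlib.LinearAlgebra.Dimension.Free
import Mathlib.LinearAlgebra.FiniteDimensional.Lemmas

open TensorProduct

universe u

noncomputable section

namespace Groth.Agent.KLRank

variable {k R B : Type u} [Field k] [CommRing R] [Algebra k R] [Module.Finite k R]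
  [AddCommGroup B] [Module k B] [Module.Finite k B] (V : Subalgebra k R)

theorem finrank_quot_eq (e : R ⊗[V] R ≃ₗ[R] R ⊗[k] B) (𝔪 : Ideal V) [𝔪.IsMaximal] :
    Module.finrank k (R ⧸ 𝔪.map (algebraMap V R)) = Module.finrank k B * Module.finrank k (V ⧸ 𝔪) := by
  letI := Ideal.Quotient.field 𝔪
  haveI : Algebra.IsIntegral V R := Algebra.IsIntegral.tower_top k
  obtain ⟨P, hP, hPm⟩ := Ideal.exists_ideal_over_maximal_of_isIntegral (S := R) 𝔪
    (by rw [(RingHom.injective_iff_ker_eq_bot _).1 (fun a b h => Subtype.ext h : Function.Injective (algebraMap V R))]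
        exact bot_le)
  let I := 𝔪.map (algebraMap V R)
  have hI : I ≤ P := Ideal.map_le_iff_le_comap.2 hPm.symm.le
  haveI : Nontrivial (R ⧸ I) := Ideal.Quotient.nontrivial_iff.2 fun h => hP.ne_top (top_le_iff.1 (h ▸ hI))
  letI : Algebra (V ⧸ 𝔪) (R ⧸ I) := (Ideal.quotientMap I (algebraMap V R) Ideal.le_comap_map).toAlgebra
  haveI : IsScalarTower V (V ⧸ 𝔪) (R ⧸ I) := IsScalarTower.of_algebraMap_eq fun x => rfl
  let e₁ : (R ⧸ I) ⊗[V ⧸ 𝔪] ((V ⧸ 𝔪) ⊗[V] R) ≃ₗ[R ⧸ I] (R ⧸ I) ⊗[k] B :=
    AlgebraTensorModule.cancelBaseChange V (V ⧸ 𝔪) (R ⧸ I) (R ⧸ I) R ≪≫ₗ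
      (AlgebraTensorModule.cancelBaseChange V R (R ⧸ I) (R ⧸ I) R).symm ≪≫ₗ
      AlgebraTensorModule.congr (LinearEquiv.refl _ _) e ≪≫ₗ
      AlgebraTensorModule.cancelBaseChange k R (R ⧸ I) (R ⧸ I) B
  have h1 := LinearEquiv.finrank_eq e₁
  rw [Module.finrank_baseChange (R := R ⧸ I) (S := V ⧸ 𝔪) (M' := (V ⧸ 𝔪) ⊗[V] R),
    Module.finrank_baseChange (R := R ⧸ I) (S := k) (M' := B)] at h1
  have h2 := Module.finrank_mul_finrank k (V ⧸ 𝔪) ((V ⧸ 𝔪) ⊗[V] R)
  let e₂ : (V ⧸ 𝔪) ⊗[V] R ≃ₗ[V] R ⧸ I :=
    quotTensorEquivQuotSMul R 𝔪 ≪≫ₗ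
      Submodule.quotEquivOfEq _ (I.restrictScalars V) (Ideal.smul_top_eq_map 𝔪)
  rw [← LinearEquiv.finrank_eq (e₂.restrictScalars k), ← h2, h1, mul_comm]

theorem finrank_map_le (e : R ⊗[V] R ≃ₗ[R] R ⊗[k] B) (J : Ideal V) :
    Module.finrank k ((Ideal.map (algebraMap V R) J).restrictScalars k) ≤
      Module.finrank k B * Module.finrank k (J.restrictScalars k) := by
  haveI : Module.Finite k V := Module.Finite.of_injective V.val.toLinearMap Subtype.val_injective
  haveI : IsNoetherian V V := isNoetherian_of_tower k (inferInstance : IsNoetherian k V)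
  induction hn : Module.finrank k (J.restrictScalars k) using Nat.strong_induction_on generalizing J with
  | h n ih =>
    subst hn
    by_cases hJ : J = ⊥
    · subst hJ
      rw [Ideal.map_bot, Submodule.restrictScalars_bot, finrank_bot]
      exact Nat.zero_le _
    · obtain ⟨J₀, hJ₀, hmax⟩ := set_has_maximal_iff_noetherian.2 (inferInstance : IsNoetherian V V)
        {J' : Ideal V | J' < J} ⟨⊥, bot_lt_iff_ne_bot.2 hJ⟩
      replace hJ₀ : J₀ < J := hJ₀
      obtain ⟨a, haJ, ha₀⟩ := SetLike.exists_of_lt hJ₀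
      have hgen : ∀ b ∈ J, b ∉ J₀ → J₀ ⊔ Ideal.span {b} = J := fun b hb hb₀ => by
        refine le_antisymm (sup_le hJ₀.le ((Ideal.span_singleton_le_iff_mem _).2 hb)) ?_
        by_contra hcon
        refine hmax _ (lt_of_le_not_ge (sup_le hJ₀.le ((Ideal.span_singleton_le_iff_mem _).2 hb)) hcon) ?_
        exact lt_of_le_not_ge le_sup_left fun h =>
          hb₀ (h (le_sup_right (a := J₀) (Ideal.subset_span rfl)))
      let 𝔪 : Ideal V := J₀.comap (LinearMap.mulRight V a)
      haveI : 𝔪.IsMaximal := by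
        refine Ideal.isMaximal_iff.2 ⟨fun h => ha₀ (by simpa [𝔪] using h), fun N v hle hv hvN => ?_⟩
        have : a ∈ J₀ ⊔ Ideal.span {v * a} := by
          rw [hgen _ (J.mul_mem_left v haJ) hv]; exact haJ
        obtain ⟨j, hj, s, hs, hjs⟩ := Submodule.mem_sup.1 this
        obtain ⟨w, rfl⟩ := Ideal.mem_span_singleton'.1 hs
        have h1 : 1 - w * v ∈ 𝔪 := by
          show (1 - w * v) * a ∈ J₀
          rw [show (1 - w * v) * a = a - w * (v * a) by ring]
          exact (eq_sub_of_add_eq hjs) ▸ hj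
        simpa using N.add_mem (hle h1) (N.mul_mem_left w hvN)
      let 𝔪' : Ideal R := 𝔪.map (algebraMap V R)
      let W := (Ideal.map (algebraMap V R) J₀).restrictScalars k
      let W' := (Ideal.map (algebraMap V R) J).restrictScalars k
      have hW : W ≤ W' := fun x hx => Ideal.map_mono hJ₀.le hx
      let g : R →ₗ[k] R ⧸ W := W.mkQ ∘ₗ LinearMap.mulRight k (a : R)
      have hg : (𝔪'.restrictScalars k) ≤ LinearMap.ker g := by
        intro r hr
        suffices 𝔪' ≤ Submodule.colon (Ideal.map (algebraMap V R) J₀) {(a : R)} by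
          simpa [g, W, Submodule.mem_colon_singleton] using this hr
        refine Ideal.map_le_iff_le_comap.2 fun v hv => ?_
        rw [Ideal.mem_comap, Submodule.mem_colon_singleton, smul_eq_mul]
        exact Ideal.mem_map_of_mem (algebraMap V R) (show v * a ∈ J₀ from hv)
      have hrange : W'.map W.mkQ ≤ LinearMap.range g := by
        rintro _ ⟨x, hx, rfl⟩
        rw [SetLike.mem_coe, Submodule.restrictScalars_mem, ← hgen a haJ ha₀, Ideal.map_sup, Ideal.map_span,
          Set.image_singleton] at hx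
        obtain ⟨j, hj, s, hs, rfl⟩ := Submodule.mem_sup.1 hx
        obtain ⟨r, rfl⟩ := Ideal.mem_span_singleton'.1 hs
        refine ⟨r, ?_⟩
        rw [map_add, show W.mkQ j = 0 from (Submodule.Quotient.mk_eq_zero W).2 hj, zero_add]
        rfl
      have hdim : Module.finrank k W' = Module.finrank k W + Module.finrank k (W'.map W.mkQ) := by
        have := LinearMap.finrank_range_add_finrank_ker (W.mkQ ∘ₗ W'.subtype)
        rw [LinearMap.range_comp, Submodule.range_subtype, LinearMap.ker_comp, Submodule.ker_mkQ,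
          LinearEquiv.finrank_eq (Submodule.comapSubtypeEquivOfLe hW)] at this
        omega
      have hq : Module.finrank k (W'.map W.mkQ) ≤ Module.finrank k B * Module.finrank k (V ⧸ 𝔪) := by
        rw [← finrank_quot_eq V e 𝔪]
        refine (Submodule.finrank_mono hrange).trans ?_
        rw [← Submodule.range_liftQ (𝔪'.restrictScalars k) g hg]
        exact (LinearMap.finrank_range_le _).trans_eq
          (LinearEquiv.finrank_eq (Submodule.Quotient.restrictScalarsEquiv k 𝔪'))
      have hcolon : Module.finrank k (J₀.restrictScalars k) + Module.finrank k (V ⧸ 𝔪) ≤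
          Module.finrank k (J.restrictScalars k) := by
        let W₀ := J₀.restrictScalars k
        let W₁ := J.restrictScalars k
        let q : V →ₗ[k] V ⧸ W₀ := W₀.mkQ ∘ₗ LinearMap.mulRight k a
        have hk : LinearMap.ker q = 𝔪.restrictScalars k := by
          ext v; simp [q, W₀, 𝔪]
        have hr : LinearMap.range q ≤ W₁.map W₀.mkQ := by
          rintro _ ⟨v, rfl⟩
          exact ⟨v * a, J.mul_mem_left v haJ, rfl⟩
        have h1 := LinearMap.finrank_range_add_finrank_ker (W₀.mkQ ∘ₗ W₁.subtype)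
        rw [LinearMap.range_comp, Submodule.range_subtype, LinearMap.ker_comp, Submodule.ker_mkQ,
          LinearEquiv.finrank_eq (Submodule.comapSubtypeEquivOfLe (show W₀ ≤ W₁ from fun x hx => hJ₀.le hx))] at h1
        have h2 := Submodule.finrank_mono hr
        rw [← LinearEquiv.finrank_eq q.quotKerEquivRange, hk,
          LinearEquiv.finrank_eq (Submodule.Quotient.restrictScalarsEquiv k 𝔪)] at h2
        show Module.finrank k W₀ + _ ≤ Module.finrank k W₁
        omega
      have hpos : 0 < Module.finrank k (V ⧸ 𝔪) := Module.finrank_pos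
      have := ih _ (by omega) J₀ rfl
      refine hdim.le.trans ((Nat.add_le_add this hq).trans ?_)
      rw [← Nat.mul_add]
      exact Nat.mul_le_mul le_rfl hcolon

theorem finrank_le (e : R ⊗[V] R ≃ₗ[R] R ⊗[k] B) :
    Module.finrank k R ≤ Module.finrank k B * Module.finrank k V := by
  have := finrank_map_le V e ⊤
  rwa [Ideal.map_top, Submodule.restrictScalars_top, finrank_top, Submodule.restrictScalars_top, finrank_top] at this

end Groth.Agent.KLRank
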