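/-
The rank of `K(f^*M)` is at most the square of the degree of `f` times the rank of `K(M)`.
-/
import Groth.Agent.L26.KL.Coeff
import Groth.Agent.L26.KL.RankAlg
import Groth.Agent.L26.KL.RankScheme
import Groth.Agent.L26.Theta.Kernel
import Groth.Agent.L08.SubgroupObj
import Groth.Agent.S19949

open CategoryTheory CategoryTheory.Limits AlgebraicGeometry TopologicalSpace Opposite
open MonoidalCategory CartesianMonoidalCategory MonObj GrpObj
open Groth.Agent.ThetaPts Groth.Agent.ThetaPairing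
open scoped TensorProduct
open Groth.Agent.ThetaSplit (pl al pl_pl pl_al pl_id IsBas exists_isBas)

universe u

noncomputable section

namespace Groth.Agent.KLBound

set_option backward.isDefEq.respectTransparency false
set_option linter.style.haveILetI false

variable {k : Type u} [Field k]

section

variable {T : Over (Spec (CommRingCat.of k))} (V : letI := KLRank.gamma T; Subalgebra k Γ(T.left, ⊤))

/-- The morphism to the spectrum of a subalgebra of functions. -/
def toSub [IsAffine T.left] : T.left ⟶ Spec (CommRingCat.of V) :=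
  T.left.isoSpec.hom ≫ Spec.map (CommRingCat.ofHom (letI := KLRank.gamma T; V.val.toRingHom))

theorem toSub_comp [IsAffine T.left] :
    toSub V ≫ Spec.map (CommRingCat.ofHom (letI := KLRank.gamma T; algebraMap k V)) = T.hom := by
  letI := KLRank.gamma T
  rw [toSub, Category.assoc, ← Spec.map_comp]
  show T.left.isoSpec.hom ≫ Spec.map ((Scheme.ΓSpecIso (CommRingCat.of k)).inv ≫ T.hom.appTop) = T.hom
  rw [Spec.map_comp, Scheme.isoSpec_hom_naturality_assoc]
  simp [Scheme.isoSpec_Spec_hom, ← Spec.map_comp]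

theorem toSub_appTop [IsAffine T.left] :
    (Scheme.ΓSpecIso (CommRingCat.of V)).inv ≫ (toSub V).appTop =
      CommRingCat.ofHom (letI := KLRank.gamma T; V.val.toRingHom) := by
  letI := KLRank.gamma T
  rw [toSub, Scheme.Hom.comp_appTop, Scheme.isoSpec_hom, ← Scheme.ΓSpecIso_inv_naturality_assoc,
    Scheme.toSpecΓ_appTop, Iso.inv_hom_id, Category.comp_id]

theorem comp_toSub_eq_iff [IsAffine T.left] {W : Scheme.{u}} (g g' : W ⟶ T.left) :
    g ≫ toSub V = g' ≫ toSub V ↔ ∀ r : Γ(T.left, ⊤), r ∈ V → g.appTop r = g'.appTop r := by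
  letI := KLRank.gamma T
  have key : ∀ (h : W ⟶ T.left) (r : V), (h ≫ toSub V).appTop ((Scheme.ΓSpecIso (CommRingCat.of V)).inv r) =
      h.appTop (r : Γ(T.left, ⊤)) := fun h r => by
    rw [Scheme.Hom.comp_appTop]
    show h.appTop (((Scheme.ΓSpecIso (CommRingCat.of V)).inv ≫ (toSub V).appTop) r) = _
    rw [toSub_appTop]
    rfl
  constructor
  · intro h r hr
    rw [← key g ⟨r, hr⟩, h, key]
  · intro h
    refine ext_of_isAffine (CommRingCat.hom_ext (RingHom.ext fun z => ?_))
    obtain ⟨r, rfl⟩ := (ConcreteCategory.bijective_of_isIso (Scheme.ΓSpecIso (CommRingCat.of V)).inv).2 z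
    rw [key, key]
    exact h r r.2

theorem eqOn_span {d : ℕ} {c : Fin d → Γ(T.left, ⊤)} (hV : letI := KLRank.gamma T; V.toSubmodule = Submodule.span k (Set.range c))
    {W : Over (Spec (CommRingCat.of k))} (g g' : W ⟶ T) (h : ∀ j, pl g (c j) = pl g' (c j))
    (r : Γ(T.left, ⊤)) (hr : r ∈ V) : pl g r = pl g' r := by
  letI := KLRank.gamma T
  rw [← Subalgebra.mem_toSubmodule, hV] at hr
  induction hr using Submodule.span_induction with
  | mem x hx => obtain ⟨j, rfl⟩ := hx; exact h j
  | zero => rw [map_zero, map_zero]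
  | add x y _ _ hx hy => rw [map_add, map_add, hx, hy]
  | smul t x _ hx =>
    rw [show t • x = al T t * x from rfl, map_mul, map_mul, pl_al, pl_al, hx]

end

variable {A B : Over (Spec (CommRingCat.of k))} [GrpObj A] [IsCommMonObj A] [IsProper A.hom] [GeometricallyIntegral A.hom]
  [GrpObj B] [IsCommMonObj B] [IsProper B.hom] [GeometricallyIntegral B.hom]

/-- `K(f^*M)` is finite, of rank at most `d² r`. -/
theorem isFinite_and_finrank_le (f : A ⟶ B) [IsMonHom f] [IsFinite f.left] [Flat f.left] (hf : Surjective f.left)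
    {d : ℕ} (hd : ∀ y : ↥B.left, Scheme.Hom.finrank f.left y = d)
    (M : B.left.Modules) (hM : PicF.IsInvertible M)
    {KM : Over (Spec (CommRingCat.of k))} (iM : KM ⟶ B) (hKM : ThetaGrp.IsKL B M iM) [IsFinite KM.hom]
    {r : ℕ} (hr : ∀ s, Scheme.Hom.finrank KM.hom s = r)
    {KL : Over (Spec (CommRingCat.of k))} (iL : KL ⟶ A)
    (hKL : ThetaGrp.IsKL A ((Scheme.Modules.pullback f.left).obj M) iL) :
    IsFinite KL.hom ∧ ∀ s, Scheme.Hom.finrank KL.hom s ≤ d ^ 2 * r := by
  let L := (Scheme.Modules.pullback f.left).obj M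
  have hL : PicF.IsInvertible L := Groth.L18.Ample.isInvertible_pullback f.left hM
  have hπ := fun T => ThetaAV.bijective_snd (A := A) T
  haveI : IsClosedImmersion iL.left := hKL.closed
  haveI : IsClosedImmersion iM.left := hKM.closed
  haveI : Mono iL := Over.mono_of_mono_left _
  haveI : Mono iM := Over.mono_of_mono_left _
  -- the kernel
  let N := pullback f η[B]
  let i : N ⟶ A := pullback.fst f η[B]
  have hN : AlgGrp.IsKernel i f := by
    rw [AlgGrp.IsKernel, toUnit_unique (toUnit N) (pullback.snd f η[B])]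
    exact IsPullback.of_hasPullback _ _
  have hNl := hN.map (Over.forget _)
  haveI : IsIso (𝟙_ (Over (Spec (CommRingCat.of k)))).hom := inferInstanceAs (IsIso (𝟙 _))
  haveI : IsFinite (toUnit N).left := MorphismProperty.of_isPullback hNl ‹IsFinite f.left›
  haveI : Flat (toUnit N).left := MorphismProperty.of_isPullback hNl ‹Flat f.left›
  haveI : IsFinite (𝟙_ (Over (Spec (CommRingCat.of k)))).hom := inferInstanceAs (IsFinite (𝟙 _))
  obtain ⟨hNfin, hNrk⟩ : IsFinite N.hom ∧ ∀ s, Scheme.Hom.finrank N.hom s = d := by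
    have h := fun s => KLRank.finrank_comp (toUnit N) (d := d) (fun y =>
      (Scheme.Hom.finrank_of_isPullback i.left (toUnit N).left f.left η[B].left hNl y).trans (hd _)) s
    refine ⟨(h (IsLocalRing.closedPoint k)).1, fun s => ?_⟩
    rw [(h s).2, show Scheme.Hom.finrank (𝟙_ (Over (Spec (CommRingCat.of k)))).hom s = 1 from
      congrFun (Scheme.Hom.finrank_eq_one_of_isIso _) s, _root_.mul_one]
  haveI : IsFinite N.hom := hNfin
  haveI : Mono i := inferInstanceAs (Mono (pullback.fst f η[B]))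
  have hfac_N : ∀ {T : Over (Spec (CommRingCat.of k))} {z : T ⟶ A}, z ≫ f = 1 → ∃ n : T ⟶ N, n ≫ i = z :=
    fun {T z} hz => ⟨hN.lift z (toUnit T) (hz.trans Hom.one_def), hN.lift_fst _ _ _⟩
  have hi1 : i ≫ f = 1 := by simpa using ThetaAV.comp_kernel_eq_one hN (𝟙 N)
  obtain ⟨instN, hiM⟩ : ∃ _ : GrpObj N, IsMonHom i := by
    refine Groth.L08.exists_grpObj_of_mono i ?_ ?_ ?_
    · refine (hfac_N (T := 𝟙_ _) (z := 1) (MonObj.one_comp f)).imp fun z hz => hz.trans ?_
      rw [Hom.one_def, toUnit_unique (toUnit (𝟙_ (Over (Spec (CommRingCat.of k))))) (𝟙 _), Category.id_comp]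
    · refine hfac_N ?_
      rw [MonObj.mul_comp, Category.assoc, hi1, MonObj.comp_one, Category.assoc, hi1, MonObj.comp_one, _root_.mul_one]
    · exact hfac_N (by rw [GrpObj.inv_comp, hi1, inv_one])
  have hfac := fun (T : Over (Spec (CommRingCat.of k))) (x : T ⟶ A) =>
    Groth.Agent.S19949.result k A B f hf N i hN M hM KL iL hKL KM iM hKM T x
  have hlocL : ∀ {T : Over (Spec (CommRingCat.of k))} {x : T ⟶ A}, (∃ y : T ⟶ KL, y ≫ iL = x) ↔ LocLift L x :=
    fun {T x} => ThetaAV.locLift_iff L hL iL hKL x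
  have hKloc : LocLift L iL := hlocL.1 ⟨𝟙 KL, Category.id_comp _⟩
  have hM1 : ∀ T : Over (Spec (CommRingCat.of k)), ∃ y : T ⟶ KM, y ≫ iM = 1 :=
    fun T => (ThetaAV.locLift_iff M hM iM hKM 1).2 LocLift.one
  have hNloc : LocLift L i := hlocL.1 ((hfac N i).1 (by rw [hi1]; exact hM1 N)).1
  -- the pairing
  obtain ⟨e⟩ := KLCoeff.nonempty_pairing hπ hL hNloc hKloc
  obtain ⟨dN, b, hb, hspan⟩ := exists_isBas N
  obtain ⟨o, ho⟩ := hfac_N (T := 𝟙_ _) (z := 1) (MonObj.one_comp f)
  obtain ⟨mN, hmN⟩ := hfac_N (T := N ⊗ N) (z := (fst N N ≫ i) * (snd N N ≫ i))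
    (by rw [MonObj.mul_comp, Category.assoc, hi1, MonObj.comp_one, Category.assoc, hi1, MonObj.comp_one, _root_.mul_one])
  have hsub := fun {T : Over (Spec (CommRingCat.of k))} [IsAffine T.left] (x : T ⟶ KL) =>
    KLCoeff.exists_subalgebra hπ hL hNloc hKloc hb hspan e ⟨o, ho⟩ ⟨mN, hmN⟩ x
  -- the orthogonal of the kernel
  let P := pullback f iM
  let iP : P ⟶ A := pullback.fst f iM
  haveI : Mono iP := inferInstanceAs (Mono (pullback.fst f iM))
  have hiP : ∀ {T : Over (Spec (CommRingCat.of k))} (p : T ⟶ P),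
      LocLift L (p ≫ iP) ∧ ThetaGrp.IsPerpPt L i (p ≫ iP) := fun {T} p => by
    have h := (hfac T (p ≫ iP)).1 ⟨p ≫ pullback.snd f iM, by rw [Category.assoc, Category.assoc, pullback.condition]⟩
    exact ⟨hlocL.1 h.1, h.2⟩
  have hfwd : ∀ {T : Over (Spec (CommRingCat.of k))} (x x' : T ⟶ KL),
      (∀ (T' : Over (Spec (CommRingCat.of k))) (h : T' ⟶ T) (n : T' ⟶ N), e.ev (h ≫ x) n = e.ev (h ≫ x') n) →
        ∃ p : T ⟶ P, (x ≫ iL) * (p ≫ iP) = x' ≫ iL := fun {T} x x' hxx => by
    let z := (x ≫ iL)⁻¹ * (x' ≫ iL)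
    have hz : LocLift L z := ((hKloc.comp x).inv).mul (hKloc.comp x')
    have hperp : ThetaGrp.IsPerpPt L i z := fun T' h n β₁ β₂ h₁ h₂ => by
      obtain ⟨c, hc⟩ := exists_isPair hπ hL (hz.comp h) (hNloc.comp n)
      have hmul := (e.isPair (h ≫ x) n).mul_left hπ hL (hKloc.comp _) (hz.comp h) (hNloc.comp n) hc
      have heq : ((h ≫ x) ≫ iL) * (h ≫ z) = (h ≫ x') ≫ iL := by
        rw [Category.assoc, ← MonObj.comp_mul, show (x ≫ iL) * z = x' ≫ iL from mul_inv_cancel_left _ _,
          Category.assoc]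
      rw [heq] at hmul
      have h' := hmul.unique hπ hL (hKloc.comp _) (hNloc.comp n) (e.isPair (h ≫ x') n)
      rw [hxx T' h n] at h'
      rw [mul_eq_left.1 h'] at hc
      exact hc.commute h₁ h₂
    obtain ⟨y, hy⟩ := (hfac T z).2 ⟨hlocL.2 hz, hperp⟩
    refine ⟨pullback.lift z y hy.symm, ?_⟩
    rw [pullback.lift_fst]
    exact mul_inv_cancel_left _ _
  have hbwd : ∀ {T : Over (Spec (CommRingCat.of k))} (x x' : T ⟶ KL) (p : T ⟶ P) (n : T ⟶ N),
      (x ≫ iL) * (p ≫ iP) = x' ≫ iL → e.ev x n = e.ev x' n := fun {T} x x' p n h => by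
    obtain ⟨hz, hperp⟩ := hiP p
    obtain ⟨c, hc⟩ := exists_isPair hπ hL hz (hNloc.comp n)
    have hc1 : c = 1 := hc.eq_one hπ hL hz (hNloc.comp n) fun T' g β₁ β₂ h₁ h₂ =>
      hperp T' g (g ≫ n) β₁ β₂ h₁ (by rwa [Category.assoc])
    subst hc1
    have hmul := (e.isPair x n).mul_left hπ hL (hKloc.comp _) hz (hNloc.comp n) hc
    rw [h, _root_.mul_one] at hmul
    exact hmul.unique hπ hL (hKloc.comp _) (hNloc.comp n) (e.isPair x' n)
  -- the orthogonal is finite of rank `d r`
  have hPl := ((IsPullback.of_hasPullback f iM).map (Over.forget _))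
  haveI : IsFinite (pullback.snd f iM).left := MorphismProperty.of_isPullback hPl ‹IsFinite f.left›
  haveI : Flat (pullback.snd f iM).left := MorphismProperty.of_isPullback hPl ‹Flat f.left›
  have hP := fun s => KLRank.finrank_comp (X := P) (pullback.snd f iM) (d := d)
    (fun y => (Scheme.Hom.finrank_of_isPullback _ (pullback.snd f iM).left f.left iM.left hPl y).trans (hd _)) s
  haveI : IsFinite P.hom := (hP (IsLocalRing.closedPoint k)).1
  haveI : IsAffine P.left := KLRank.isAffine_of_finite P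
  -- finiteness
  haveI : IsProper KL.hom := by rw [← Over.w iL]; infer_instance
  haveI : CompactSpace KL.left := QuasiCompact.compactSpace_of_compactSpace KL.hom
  have hUfin : ∀ U : KL.left.affineOpens, (U.1 : Set KL.left).Finite := fun U => by
    let T := opn KL U.1
    haveI : IsAffine T.left := U.2
    letI := KLRank.gamma T
    obtain ⟨c, V, hc, hV⟩ := hsub (opnι KL U.1)
    haveI : Module.Finite k V := by
      show Module.Finite k V.toSubmodule
      rw [hV]; exact Module.Finite.span_of_finite k (Set.finite_range c)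
    haveI : IsArtinianRing V := IsArtinianRing.of_finite k V
    haveI : Finite (PrimeSpectrum V) := inferInstance
    suffices H : ∀ z : T.left, ((toSub V) ⁻¹' {toSub V z}).Finite by
      have : (Set.univ : Set T.left).Finite := by
        refine Set.Finite.subset (Set.finite_iUnion (f := fun v : Set.range (toSub V) =>
          (toSub V) ⁻¹' {v.1}) fun v => ?_) fun z _ => Set.mem_iUnion.2 ⟨⟨_, z, rfl⟩, rfl⟩
        obtain ⟨v, z, rfl⟩ := v
        exact H z
      have h2 := this.image U.1.ι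
      rwa [Set.image_univ, Scheme.Opens.range_ι] at h2
    intro z
    let W := pullback (toSub V) (toSub V)
    let Wo : Over (Spec (CommRingCat.of k)) := Over.mk (pullback.fst (toSub V) (toSub V) ≫ T.hom)
    let g : Wo ⟶ T := Over.homMk (pullback.fst _ _) rfl
    let g' : Wo ⟶ T := Over.homMk (pullback.snd _ _) (by
      show pullback.snd (toSub V) (toSub V) ≫ T.hom = pullback.fst (toSub V) (toSub V) ≫ T.hom
      rw [← toSub_comp V, pullback.condition_assoc])
    have hgr := (comp_toSub_eq_iff V g.left g'.left).1 pullback.condition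
    have hcV : ∀ j, c j ∈ V := fun j => by
      rw [← Subalgebra.mem_toSubmodule, hV]; exact Submodule.subset_span ⟨j, rfl⟩
    obtain ⟨p, hp⟩ := hfwd (g ≫ opnι KL U.1) (g' ≫ opnι KL U.1) fun T' h n => Units.ext (by
      rw [← Category.assoc, ← Category.assoc, hc, hc]
      refine Finset.sum_congr rfl fun j _ => ?_
      rw [← pl_pl, ← pl_pl, show pl g (c j) = pl g' (c j) from hgr _ (hcV j)])
    let φ : T ⊗ P ⟶ A := (fst T P ≫ opnι KL U.1 ≫ iL) * (snd T P ≫ iP)
    have hφ : lift g p ≫ φ = g' ≫ opnι KL U.1 ≫ iL := by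
      simp only [φ, MonObj.comp_mul, lift_fst_assoc, lift_snd_assoc]
      simpa only [Category.assoc] using hp
    haveI : IsFinite (fst T P).left := inferInstanceAs (IsFinite (pullback.fst T.hom P.hom))
    have hinj : Function.Injective fun z : T.left => iL.left (U.1.ι z) :=
      iL.left.isEmbedding.injective.comp U.1.ι.isEmbedding.injective
    refine (((fst T P).left.finite_preimage_singleton z).image φ.left).preimage hinj.injOn |>.subset ?_
    intro z' hz'
    obtain ⟨w, hw, hw'⟩ := Scheme.Pullback.exists_preimage_pullback (f := toSub V) (g := toSub V) z z' hz'.symm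
    refine ⟨(lift g p).left w, ?_, ?_⟩
    · show (lift g p ≫ fst T P).left w = z
      rw [lift_fst]; exact hw
    · show (lift g p ≫ φ).left w = iL.left (U.1.ι z')
      rw [hφ, ← hw']
      rfl
  haveI : Finite KL.left := by
    obtain ⟨t, ht⟩ := isCompact_univ.elim_finite_subcover (fun U : KL.left.affineOpens => (U.1 : Set KL.left))
      (fun U => U.1.2) fun x _ => by
        obtain ⟨U, hU, hxU, -⟩ := exists_isAffineOpen_mem_and_subset (x := x) (U := (⊤ : KL.left.Opens)) trivial
        exact Set.mem_iUnion.2 ⟨⟨U, hU⟩, hxU⟩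
    exact Set.finite_univ_iff.1 ((t.finite_toSet.biUnion fun U _ => hUfin U).subset ht)
  haveI : LocallyQuasiFinite KL.hom := LocallyQuasiFinite.of_finite_preimage_singleton KL.hom fun _ => Set.toFinite _
  haveI hKLfin : IsFinite KL.hom := IsFinite.of_isProper_of_locallyQuasiFinite KL.hom
  refine ⟨hKLfin, fun s => ?_⟩
  -- the rank
  haveI : IsAffine KL.left := KLRank.isAffine_of_finite KL
  letI := KLRank.gamma KL
  letI := KLRank.gamma P
  haveI : Module.Finite k Γ(KL.left, ⊤) := KLRank.finite_al KL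
  haveI : Module.Finite k Γ(P.left, ⊤) := KLRank.finite_al P
  obtain ⟨c, V, hc, hV⟩ := hsub (𝟙 KL)
  have hdN : dN ≤ d := by
    letI := KLRank.gamma N
    haveI : Module.Finite k Γ(N.left, ⊤) := KLRank.finite_al N
    rw [← hNrk s, KLRank.finrank_hom_eq N s]
    refine (Fintype.card_fin dN).symm.trans_le (LinearIndependent.fintype_card_le_finrank (b := b) ?_)
    refine Fintype.linearIndependent_iff.2 fun a ha j => ?_
    have h0 : (fun j => al (𝟙_ (Over (Spec (CommRingCat.of k)))) (a j)) = fun _ => 0 := by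
      refine (hb (𝟙_ _) (inferInstanceAs (IsAffine (Spec (CommRingCat.of k))))).1 ?_
      have h := congrArg (pl (fst N (𝟙_ (Over (Spec (CommRingCat.of k)))))) ha
      rw [map_zero, map_sum] at h
      simp only [map_zero, mul_zero, Finset.sum_const_zero]
      refine Eq.trans (Finset.sum_congr rfl fun j _ => ?_) h
      rw [show a j • b j = al N (a j) * b j from rfl, map_mul, pl_al, pl_al, mul_comm]
    haveI : Nontrivial Γ((𝟙_ (Over (Spec (CommRingCat.of k)))).left, ⊤) :=
      (Scheme.ΓSpecIso (CommRingCat.of k)).commRingCatIsoToRingEquiv.symm.injective.nontrivial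
    exact (RingHom.injective (al (𝟙_ (Over (Spec (CommRingCat.of k)))))) ((congrFun h0 j).trans (map_zero _).symm)
  have hVd : Module.finrank k V ≤ d := by
    show Module.finrank k V.toSubmodule ≤ d
    rw [hV]
    exact ((finrank_range_le_card c).trans_eq (Fintype.card_fin _)).trans hdN
  have hg' : ∃ g' : KL ⊗ P ⟶ KL, g' ≫ iL = (fst KL P ≫ iL) * (snd KL P ≫ iP) :=
    hlocL.2 ((hKloc.comp (fst KL P)).mul (hiP (snd KL P)).1)
  obtain ⟨g', hg'⟩ := hg'
  haveI : IsAffine (KL ⊗ P).left := inferInstanceAs (IsAffine (pullback KL.hom P.hom))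
  have hfst : (fst KL P).left ≫ toSub V = g'.left ≫ toSub V := by
    refine (comp_toSub_eq_iff V _ _).2 fun r hr => eqOn_span V hV (fst KL P) g' (fun j => ?_) r hr
    let T' := KL ⊗ P
    haveI : IsAffine N.left := KLRank.isAffine_of_finite N
    haveI : IsAffine (N ⊗ T').left := inferInstanceAs (IsAffine (pullback N.hom T'.hom))
    have h1 := hbwd (snd N T' ≫ fst KL P) (snd N T' ≫ g') (snd N T' ≫ snd KL P) (fst N T') (by
      rw [Category.assoc, Category.assoc, ← MonObj.comp_mul, ← hg', Category.assoc])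
    have h2 := congrArg Units.val h1
    rw [← Category.comp_id (snd N T' ≫ fst KL P), ← Category.comp_id (snd N T' ≫ g'), hc, hc] at h2
    simp only [← pl_pl] at h2
    exact congrFun ((hb T' inferInstance).1 h2) j
  let Q := pullback (toSub V) (toSub V)
  haveI : IsAffine Q := inferInstanceAs (IsAffine (pullback _ _))
  let Qo : Over (Spec (CommRingCat.of k)) := Over.mk (pullback.fst (toSub V) (toSub V) ≫ KL.hom)
  let q : Qo ⟶ KL := Over.homMk (pullback.fst _ _) rfl
  let q' : Qo ⟶ KL := Over.homMk (pullback.snd _ _) (by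
    show pullback.snd (toSub V) (toSub V) ≫ KL.hom = pullback.fst (toSub V) (toSub V) ≫ KL.hom
    rw [← toSub_comp V, pullback.condition_assoc])
  have hqr := (comp_toSub_eq_iff V q.left q'.left).1 pullback.condition
  have hcV : ∀ j, c j ∈ V := fun j => by
    rw [← Subalgebra.mem_toSubmodule, hV]; exact Submodule.subset_span ⟨j, rfl⟩
  obtain ⟨p, hp⟩ := hfwd q q' fun T' h n => Units.ext (by
    rw [← Category.comp_id (h ≫ q), ← Category.comp_id (h ≫ q'), hc, hc]
    refine Finset.sum_congr rfl fun j _ => ?_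
    rw [← pl_pl, ← pl_pl, show pl q (c j) = pl q' (c j) from hqr _ (hcV j)])
  let ψ : (KL ⊗ P).left ⟶ Q := pullback.lift (fst KL P).left g'.left hfst
  let ψ' : KL ⊗ P ⟶ Qo := Over.homMk ψ (by
    show ψ ≫ pullback.fst (toSub V) (toSub V) ≫ KL.hom = (KL ⊗ P).hom
    rw [pullback.lift_fst_assoc, Over.w])
  have hψq : ψ' ≫ q = fst KL P := Over.OverMorphism.ext (pullback.lift_fst _ _ _)
  have hψq' : ψ' ≫ q' = g' := Over.OverMorphism.ext (pullback.lift_snd _ _ _)
  have h12 : ψ' ≫ lift q p = 𝟙 _ := by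
    refine CartesianMonoidalCategory.hom_ext _ _ ?_ ?_
    · rw [Category.assoc, lift_fst, hψq, Category.id_comp]
    · rw [Category.assoc, lift_snd, Category.id_comp, ← cancel_mono iP]
      have := congrArg (ψ' ≫ ·) hp
      simp only [MonObj.comp_mul, ← Category.assoc, hψq, hψq', hg'] at this
      exact mul_left_cancel this
  have h21 : lift q p ≫ ψ' = 𝟙 _ := by
    refine Over.OverMorphism.ext (pullback.hom_ext ?_ ?_)
    · show (lift q p).left ≫ ψ ≫ pullback.fst _ _ = 𝟙 _ ≫ q.left
      rw [pullback.lift_fst, ← Over.comp_left, lift_fst, Category.id_comp]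
    · show (lift q p).left ≫ ψ ≫ pullback.snd _ _ = 𝟙 _ ≫ q'.left
      rw [pullback.lift_snd, ← Over.comp_left, Category.id_comp]
      refine congrArg CommaMorphism.left ((cancel_mono iL).1 ?_)
      rw [Category.assoc, hg', MonObj.comp_mul, lift_fst_assoc, lift_snd_assoc, hp]
  haveI : IsIso ψ := ((Over.forget _).mapIso (Iso.mk ψ' (lift q p) h12 h21)).isIso_hom
  -- the algebra
  have hQ : IsPushout (CommRingCat.ofHom (algebraMap V Γ(KL.left, ⊤))) (CommRingCat.ofHom (algebraMap V Γ(KL.left, ⊤)))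
      (pullback.fst (toSub V) (toSub V)).appTop (pullback.snd (toSub V) (toSub V)).appTop := by
    have h0 : IsPushout (toSub V).appTop (toSub V).appTop (pullback.fst (toSub V) (toSub V)).appTop
        (pullback.snd (toSub V) (toSub V)).appTop :=
      isPushout_appTop_of_isPullback (IsPullback.of_hasPullback (toSub V) (toSub V))
    refine h0.of_iso (Scheme.ΓSpecIso (CommRingCat.of V)) (Iso.refl _) (Iso.refl _) (Iso.refl _) ?_ ?_ (by simp) (by simp)
    all_goals
      rw [Iso.refl_hom, Category.comp_id, show CommRingCat.ofHom (algebraMap V Γ(KL.left, ⊤)) =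
        (Scheme.ΓSpecIso (CommRingCat.of V)).inv ≫ (toSub V).appTop from (toSub_appTop V).symm]
      exact (Iso.hom_inv_id_assoc _ _).symm
  have hPP : IsPushout (CommRingCat.ofHom (algebraMap k Γ(KL.left, ⊤))) (CommRingCat.ofHom (algebraMap k Γ(P.left, ⊤)))
      (fst KL P).left.appTop (snd KL P).left.appTop := by
    have h0 : IsPushout KL.hom.appTop P.hom.appTop (fst KL P).left.appTop (snd KL P).left.appTop :=
      isPushout_appTop_of_isPullback (IsPullback.of_hasPullback KL.hom P.hom)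
    exact h0.of_iso (Scheme.ΓSpecIso (CommRingCat.of k)) (Iso.refl _) (Iso.refl _) (Iso.refl _)
      (by rw [Iso.refl_hom, Category.comp_id]; exact (Iso.hom_inv_id_assoc _ _).symm)
      (by rw [Iso.refl_hom, Category.comp_id]; exact (Iso.hom_inv_id_assoc _ _).symm)
      (by simp) (by simp)
  let e₁ := (CommRingCat.isPushout_tensorProduct V Γ(KL.left, ⊤) Γ(KL.left, ⊤)).isoIsPushout _ _ hQ
  let e₂ := (CommRingCat.isPushout_tensorProduct k Γ(KL.left, ⊤) Γ(P.left, ⊤)).isoIsPushout _ _ hPP
  let eR := (e₁ ≪≫ asIso ψ.appTop ≪≫ e₂.symm).commRingCatIsoToRingEquiv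
  have heR : ∀ x : Γ(KL.left, ⊤), eR (x ⊗ₜ[V] 1) = x ⊗ₜ[k] 1 := fun x => by
    have h1 : e₁.hom (x ⊗ₜ[V] 1) = (pullback.fst (toSub V) (toSub V)).appTop x :=
      congr($((CommRingCat.isPushout_tensorProduct V Γ(KL.left, ⊤) Γ(KL.left, ⊤)).inl_isoIsPushout_hom _ _ hQ).hom x)
    have h2 : e₂.hom (x ⊗ₜ[k] 1) = (fst KL P).left.appTop x :=
      congr($((CommRingCat.isPushout_tensorProduct k Γ(KL.left, ⊤) Γ(P.left, ⊤)).inl_isoIsPushout_hom _ _ hPP).hom x)
    show e₂.inv (ψ.appTop (e₁.hom (x ⊗ₜ[V] 1))) = _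
    rw [h1, show ψ.appTop ((pullback.fst (toSub V) (toSub V)).appTop x) = (fst KL P).left.appTop x from
      congr($((Scheme.Hom.comp_appTop ψ (pullback.fst (toSub V) (toSub V))).symm.trans
        (congrArg Scheme.Hom.appTop (pullback.lift_fst _ _ hfst))).hom x), ← h2]
    exact congr($(e₂.hom_inv_id).hom (x ⊗ₜ[k] 1))
  let eA : Γ(KL.left, ⊤) ⊗[V] Γ(KL.left, ⊤) ≃ₐ[Γ(KL.left, ⊤)] Γ(KL.left, ⊤) ⊗[k] Γ(P.left, ⊤) :=
    AlgEquiv.ofRingEquiv (f := eR) fun x => heR x
  rw [KLRank.finrank_hom_eq KL s]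
  refine (KLRank.finrank_le V eA.toLinearEquiv).trans ?_
  rw [← KLRank.finrank_hom_eq P s, (hP s).2, hr]
  calc d * r * Module.finrank k V ≤ d * r * d := Nat.mul_le_mul le_rfl hVd
    _ = d ^ 2 * r := by ring

end Groth.Agent.KLBound
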