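/-
`K([n]^*M)` is the preimage of `K(M)` under `[n²]`.
-/
import Groth.Agent.L26.KL.Basic
import Groth.Agent.L26.KL.RankScheme
import Groth.Agent.L26.AV.Degree
import Groth.Agent.L08.Cube.ThreeMaps

open CategoryTheory CategoryTheory.Limits AlgebraicGeometry TopologicalSpace Opposite
open MonoidalCategory CartesianMonoidalCategory MonObj GrpObj
open Groth.L08.Cube (pc)

universe u

noncomputable section

namespace Groth.Agent.KLMulN

set_option backward.isDefEq.respectTransparency false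
set_option backward.isDefEq.respectTransparency.types false
set_option linter.style.haveILetI false

attribute [local instance] Groth.L08.Cube.clMonoid

variable {k : Type u} [Field k] {A : Over (Spec (CommRingCat.of k))} [GrpObj A] [IsCommMonObj A]
  [IsProper A.hom] [GeometricallyIntegral A.hom] (M : A.left.Modules) (hM : PicF.IsInvertible M)
  {V : Over (Spec (CommRingCat.of k))}

/-- The pullback class, as a unit. -/
def u' (a : V ⟶ A) : (PicF.Cl V.left)ˣ :=
  Units.mkOfMulEqOne (pc M a) (Groth.L08.Cube.exists_inverseCl (Groth.L08.Cube.isInvertibleCl_pc M hM a)).choose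
    (Groth.L08.Cube.exists_inverseCl (Groth.L08.Cube.isInvertibleCl_pc M hM a)).choose_spec.2

theorem u'_one : u' M hM (1 : V ⟶ A) = 1 := Units.ext (Groth.L08.Cube.pc_one M hM V)

/-- The symmetric pairing of the cube. -/
def bil (a b : V ⟶ A) : (PicF.Cl V.left)ˣ := u' M hM (a * b) * (u' M hM a * u' M hM b)⁻¹

theorem bil_comm (a b : V ⟶ A) : bil M hM a b = bil M hM b a := by
  rw [bil, bil, mul_comm a, mul_comm (u' M hM a)]

theorem bil_one_left (b : V ⟶ A) : bil M hM 1 b = 1 := by
  rw [bil, _root_.one_mul, u'_one, _root_.one_mul, mul_inv_cancel]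

theorem bil_mul_left (a b c : V ⟶ A) : bil M hM (a * b) c = bil M hM a c * bil M hM b c := by
  have h : u' M hM (a * b * c) * u' M hM a * u' M hM b * u' M hM c =
      u' M hM (a * b) * u' M hM (a * c) * u' M hM (b * c) :=
    Units.ext (Groth.L08.Cube.cube_relation M hM a b c)
  simp only [bil, _root_.mul_inv_rev]
  calc u' M hM (a * b * c) * ((u' M hM c)⁻¹ * (u' M hM (a * b))⁻¹)
      = (u' M hM (a * b * c) * u' M hM a * u' M hM b * u' M hM c) *
          ((u' M hM c)⁻¹ * (u' M hM c)⁻¹ * (u' M hM a)⁻¹ * (u' M hM b)⁻¹ * (u' M hM (a * b))⁻¹) := by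
        simp [mul_comm, mul_left_comm, _root_.mul_assoc]
    _ = u' M hM (a * c) * ((u' M hM c)⁻¹ * (u' M hM a)⁻¹) * (u' M hM (b * c) * ((u' M hM c)⁻¹ * (u' M hM b)⁻¹)) := by
        rw [h]; simp [mul_comm, mul_left_comm, _root_.mul_assoc]

theorem bil_pow_left (a b : V ⟶ A) (n : ℕ) : bil M hM (a ^ n) b = bil M hM a b ^ n := by
  induction n with
  | zero => rw [pow_zero, pow_zero, bil_one_left]
  | succ n ih => rw [pow_succ, bil_mul_left, ih, pow_succ]

theorem bil_pow_right (a b : V ⟶ A) (n : ℕ) : bil M hM a (b ^ n) = bil M hM a b ^ n := by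
  rw [bil_comm, bil_pow_left, bil_comm]

theorem bil_eq_one_iff (a b : V ⟶ A) :
    bil M hM a b = 1 ↔ pc M (a * b) = pc M a * pc M b := by
  rw [bil, mul_inv_eq_one, Units.ext_iff]
  rfl

include hM in
/-- `K([n]^*M)` is the preimage of `K(M)` under `[n²]`. -/
theorem isKL_pow {K : Over (Spec (CommRingCat.of k))} {iK : K ⟶ A} (hK : ThetaGrp.IsKL A M iK) (n : ℕ) :
    ThetaGrp.IsKL A ((Scheme.Modules.pullback (𝟙 A ^ n).left).obj M) (pullback.fst (𝟙 A ^ (n * n)) iK) := by
  haveI : IsClosedImmersion iK.left := hK.closed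
  have hsq := (IsPullback.of_hasPullback (𝟙 A ^ (n * n)) iK).map (Over.forget _)
  refine ⟨MorphismProperty.of_isPullback (P := @IsClosedImmersion) hsq.flip hK.closed, fun T z => ?_⟩
  have hM' : PicF.IsInvertible ((Scheme.Modules.pullback (𝟙 A ^ n).left).obj M) :=
    Groth.L18.Ample.isInvertible_pullback _ hM
  have h1 := fun (L : A.left.Modules) (hL : PicF.IsInvertible L) =>
    KLLib.isMumfordTriv_iff (z := z) L hL (KLLib.pullCl_unit_eq_one (c := PicF.cl L) ⟨L, rfl, hL⟩)
  have h2 : ThetaGrp.IsMumfordTriv A ((Scheme.Modules.pullback (𝟙 A ^ n).left).obj M) z ↔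
      ThetaGrp.IsMumfordTriv A M (z ^ (n * n)) := by
    rw [h1 _ hM', KLLib.isMumfordTriv_iff (z := z ^ (n * n)) M hM (KLLib.pullCl_unit_eq_one ⟨M, rfl, hM⟩)]
    have hpull : ∀ q : A ⊗ T ⟶ A, PicF.pullCl q.left (PicF.cl ((Scheme.Modules.pullback (𝟙 A ^ n).left).obj M)) =
        pc M (q ^ n) := fun q => by
      rw [show PicF.cl ((Scheme.Modules.pullback (𝟙 A ^ n).left).obj M) = pc M (𝟙 A ^ n) from rfl,
        Groth.L08.Cube.pullCl_pc, MonObj.comp_pow, Category.comp_id]
    unfold KLLib.Inv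
    rw [hpull, hpull, hpull]
    show pc M _ = pc M _ * pc M _ ↔ pc M _ = pc M _ * pc M _
    rw [mul_pow, ← bil_eq_one_iff M hM, ← bil_eq_one_iff M hM, MonObj.comp_pow, bil_pow_left, bil_pow_right,
      bil_pow_right, ← pow_mul]
  rw [h2, hK.univ]
  constructor
  · rintro ⟨y, hy⟩
    exact ⟨pullback.lift z y (by rw [hy, MonObj.comp_pow, Category.comp_id]), pullback.lift_fst _ _ _⟩
  · rintro ⟨y, rfl⟩
    exact ⟨y ≫ pullback.snd _ _, by
      rw [Category.assoc, ← pullback.condition, ← Category.assoc, MonObj.comp_pow, Category.comp_id]⟩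

end Groth.Agent.KLMulN
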